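import Mathlib
import Cfsg.Agent.Classical.SLExtra

/-! Special linear groups of dimension at most four are covered by the conjugates of two proper subgroups: the
stabiliser of a line and the centraliser of an extension field. -/

set_option autoImplicit false
set_option linter.unusedSectionVars false
set_option linter.style.haveILetI false

open Polynomial

namespace Cfsg.Lib.TwoClassCover

/-- A group is covered by the conjugates of two proper subgroups. -/
def Covered (G : Type*) [Group G] : Prop :=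
  ∃ H K : Subgroup G, H ≠ ⊤ ∧ K ≠ ⊤ ∧ ∀ g : G, ∃ x : G, x * g * x⁻¹ ∈ H ∨ x * g * x⁻¹ ∈ K

/-- A cover by subgroups containing a normal subgroup passes to the quotient. -/
theorem covered_quotient {G : Type*} [Group G] (Z : Subgroup G) [Z.Normal] (H K : Subgroup G) (hZH : Z ≤ H)
    (hZK : Z ≤ K) (hH : H ≠ ⊤) (hK : K ≠ ⊤) (hcov : ∀ g : G, ∃ x : G, x * g * x⁻¹ ∈ H ∨ x * g * x⁻¹ ∈ K) :
    Covered (G ⧸ Z) := by
  have hne : ∀ J : Subgroup G, Z ≤ J → J ≠ ⊤ → J.map (QuotientGroup.mk' Z) ≠ ⊤ := fun J hJ hJt h => hJt <| by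
    have := congrArg (Subgroup.comap (QuotientGroup.mk' Z)) h
    rwa [Subgroup.comap_map_eq, QuotientGroup.ker_mk', sup_of_le_left hJ, Subgroup.comap_top] at this
  refine ⟨H.map (QuotientGroup.mk' Z), K.map (QuotientGroup.mk' Z), hne H hZH hH, hne K hZK hK, fun g => ?_⟩
  obtain ⟨g, rfl⟩ := QuotientGroup.mk'_surjective Z g
  obtain ⟨x, hx⟩ := hcov g
  refine ⟨QuotientGroup.mk' Z x, ?_⟩
  rw [← map_inv, ← map_mul, ← map_mul]
  exact hx.imp (Subgroup.mem_map_of_mem _) (Subgroup.mem_map_of_mem _)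

universe u

variable {F : Type u} [Field F] [Fintype F]

section Root

theorem comp_pow_card (P a : F[X]) (e : ℕ) :
    P.comp (a ^ Fintype.card F ^ e) = (P.comp a) ^ Fintype.card F ^ e := by
  induction e with
  | zero => simp
  | succ e ih =>
    rw [pow_succ, pow_mul, pow_mul, ← ih]
    conv_rhs => rw [← pow_comp, ← FiniteField.expand_card, expand_eq_comp_X_pow, comp_assoc, X_pow_comp]

/-- A root of an irreducible polynomial modulo a polynomial whose irreducible factors have suitable degrees. -/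
theorem exists_root_mod (P : F[X]) (hP : Irreducible P) (χ : F[X]) (hχ : χ ≠ 0)
    (hdeg : ∀ f, Irreducible f → f ∣ χ → P.natDegree ∣ f.natDegree) : ∃ a, χ ∣ P.comp a := by
  revert hdeg hχ
  refine UniqueFactorizationMonoid.induction_on_coprime χ (fun h => absurd rfl h)
    (fun {x} hx _ _ => ⟨0, hx.dvd⟩) (fun {f} e hf hne hdeg => ?_) (fun {x y} hxy ihx ihy hne hdeg => ?_)
  · rcases e.eq_zero_or_pos with rfl | he
    · exact ⟨0, by simp⟩
    have hfi : Irreducible f := hf.irreducible
    have hd : P.natDegree ∣ f.natDegree := hdeg f hfi (dvd_pow_self f he.ne')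
    haveI : Fact (Irreducible P) := ⟨hP⟩
    haveI : Fact (Irreducible f) := ⟨hfi⟩
    haveI := (AdjoinRoot.powerBasis hfi.ne_zero).finite
    haveI := (AdjoinRoot.powerBasis hP.ne_zero).finite
    haveI : Finite (AdjoinRoot f) := Module.finite_of_finite F
    obtain ⟨σ⟩ := FiniteField.nonempty_algHom_of_finrank_dvd (F := F) (K := AdjoinRoot P) (L := AdjoinRoot f) (by
      rwa [(AdjoinRoot.powerBasis hP.ne_zero).finrank, (AdjoinRoot.powerBasis hfi.ne_zero).finrank,
        AdjoinRoot.powerBasis_dim, AdjoinRoot.powerBasis_dim])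
    obtain ⟨a, ha⟩ := AdjoinRoot.mk_surjective (g := f) (σ (AdjoinRoot.root P))
    have h0 : f ∣ P.comp a := by
      rw [← AdjoinRoot.mk_eq_zero, ← AdjoinRoot.aeval_eq, aeval_comp, AdjoinRoot.aeval_eq, ha, aeval_algHom_apply,
        AdjoinRoot.aeval_eq, AdjoinRoot.mk_self, map_zero]
    refine ⟨a ^ Fintype.card F ^ e, ?_⟩
    rw [comp_pow_card]
    exact (pow_dvd_pow f (Nat.lt_pow_self Fintype.one_lt_card).le).trans (pow_dvd_pow_of_dvd h0 _)
  · obtain ⟨a, ha⟩ := ihx (left_ne_zero_of_mul hne) fun f hf h => hdeg f hf (h.mul_right y)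
    obtain ⟨b, hb⟩ := ihy (right_ne_zero_of_mul hne) fun f hf h => hdeg f hf (h.mul_left x)
    have hc : IsCoprime x y := hxy.isCoprime
    obtain ⟨u, v, huv⟩ := hc
    refine ⟨a * (v * y) + b * (u * x), (IsCoprime.mul_dvd (z := P.comp (a * (v * y) + b * (u * x))) ⟨u, v, huv⟩ ?_ ?_)⟩
    · have h : (a * (v * y) + b * (u * x)) - a ∣ P.comp (a * (v * y) + b * (u * x)) - P.comp a := by
        simpa [eval_map, comp] using sub_dvd_eval_sub (a * (v * y) + b * (u * x)) a (P.map C)
      have h' : x ∣ (a * (v * y) + b * (u * x)) - a := ⟨(b - a) * u, by linear_combination a * huv⟩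
      simpa using (h'.trans h).add ha
    · have h : (a * (v * y) + b * (u * x)) - b ∣ P.comp (a * (v * y) + b * (u * x)) - P.comp b := by
        simpa [eval_map, comp] using sub_dvd_eval_sub (a * (v * y) + b * (u * x)) b (P.map C)
      have h' : y ∣ (a * (v * y) + b * (u * x)) - b := ⟨(a - b) * v, by linear_combination b * huv⟩
      simpa using (h'.trans h).add hb

end Root

section Cover

variable {n : ℕ} {K : Type*} [Field K] [Fintype K] [Algebra F K]

/-- The natural module with scalars acting through an algebra map. -/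
def Via (_φ : K →ₐ[F] Matrix (Fin n) (Fin n) F) : Type u := Fin n → F

variable (φ : K →ₐ[F] Matrix (Fin n) (Fin n) F)

instance : AddCommGroup (Via φ) := inferInstanceAs (AddCommGroup (Fin n → F))
instance : Module F (Via φ) := inferInstanceAs (Module F (Fin n → F))
instance : Module.Finite F (Via φ) := inferInstanceAs (Module.Finite F (Fin n → F))
instance : Module K (Via φ) :=
  Module.compHom (Fin n → F) ((Matrix.toLinAlgEquiv'.toAlgHom.comp φ).toRingHom)

theorem via_smul (a : K) (v : Via φ) : a • v = (φ a).mulVec v := rfl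

instance : IsScalarTower F K (Via φ) :=
  ⟨fun c a v => by rw [via_smul, via_smul, map_smul]; exact Matrix.smul_mulVec c (φ a) v⟩

instance : Module.Finite K (Via φ) := Module.Finite.of_restrictScalars_finite F K _

theorem finrank_via : Module.finrank F K * Module.finrank K (Via φ) = n := by
  rw [Module.finrank_mul_finrank]
  exact Module.finrank_fin_fun (R := F)

/-- Two actions of the extension field are conjugate in the special linear group. -/
theorem exists_conj (hn : 0 < n) (ψ : K →ₐ[F] Matrix (Fin n) (Fin n) F) :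
    ∃ x : Matrix.SpecialLinearGroup (Fin n) F, ∀ a, (x : Matrix (Fin n) (Fin n) F) * ψ a = φ a * x := by
  have hdim : Module.finrank K (Via ψ) = Module.finrank K (Via φ) :=
    Nat.eq_of_mul_eq_mul_left Module.finrank_pos ((finrank_via ψ).trans (finrank_via φ).symm)
  let e := LinearEquiv.ofFinrankEq _ _ hdim
  let e' : (Fin n → F) ≃ₗ[F] (Fin n → F) := e.restrictScalars F
  obtain ⟨c, hc⟩ := FiniteField.norm_surjective F K ((LinearMap.det (e' : (Fin n → F) →ₗ[F] (Fin n → F)))⁻¹)
  let b := Module.finBasis K (Via φ)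
  have hpos : 0 < Module.finrank K (Via φ) := by
    rcases Nat.eq_zero_or_pos (Module.finrank K (Via φ)) with h | h
    · have := finrank_via φ; rw [h, mul_zero] at this; omega
    · exact h
  let D : Via φ →ₗ[K] Via φ := Matrix.toLin b b (Matrix.diagonal (Function.update 1 ⟨0, hpos⟩ c))
  let D' : (Fin n → F) →ₗ[F] (Fin n → F) := D.restrictScalars F
  have hD : LinearMap.det D' = (LinearMap.det (e' : (Fin n → F) →ₗ[F] (Fin n → F)))⁻¹ := by
    rw [← hc]
    show LinearMap.det (D.restrictScalars F) = _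
    rw [LinearMap.det_restrictScalars, LinearMap.det_toLin, Matrix.det_diagonal,
      Finset.prod_update_of_mem (Finset.mem_univ _)]
    simp
  refine ⟨⟨LinearMap.toMatrix' (D' ∘ₗ (e' : (Fin n → F) →ₗ[F] (Fin n → F))), ?_⟩, fun a => ?_⟩
  · rw [LinearMap.det_toMatrix', LinearMap.det_comp, hD]
    exact inv_mul_cancel₀ (LinearEquiv.isUnit_det' e').ne_zero
  · refine Matrix.toLin'.injective (LinearMap.ext fun v => ?_)
    simp only [Matrix.toLin'_mul, LinearMap.comp_apply, Matrix.toLin'_toMatrix']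
    show D (e (a • (show Via ψ from v))) = a • D (e (show Via ψ from v))
    rw [map_smul, map_smul]

variable (F n)

/-- The centraliser of the extension field. -/
def centK (φ : K →ₐ[F] Matrix (Fin n) (Fin n) F) : Subgroup (Matrix.SpecialLinearGroup (Fin n) F) where
  carrier := {x | ∀ a, Commute (x : Matrix (Fin n) (Fin n) F) (φ a)}
  one_mem' _ := Commute.one_left _
  mul_mem' hx hy a := (hx a).mul_left (hy a)
  inv_mem' {x} hx a := by
    have h1 := Classical.sl_inv_mul x
    have h2 := Classical.sl_mul_inv x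
    show _ * _ = _ * _
    calc ((x⁻¹ : Matrix.SpecialLinearGroup (Fin n) F) : Matrix (Fin n) (Fin n) F) * φ a
        = (x⁻¹).1 * φ a * (x.1 * (x⁻¹).1) := by rw [h2, mul_one]
      _ = (x⁻¹).1 * (φ a * x.1) * (x⁻¹).1 := by simp only [mul_assoc]
      _ = φ a * (x⁻¹).1 := by rw [← (hx a).eq, ← mul_assoc, h1, one_mul]

/-- The stabiliser of a line. -/
def lineStab (i : Fin n) : Subgroup (Matrix.SpecialLinearGroup (Fin n) F) where
  carrier := {x | ∃ c : F, (x : Matrix (Fin n) (Fin n) F).mulVec (Pi.single i 1) = c • Pi.single i 1}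
  one_mem' := ⟨1, by rw [Classical.sl_coe_one, Matrix.one_mulVec, one_smul]⟩
  mul_mem' := by
    rintro x y ⟨c, hc⟩ ⟨d, hd⟩
    exact ⟨d * c, by rw [Classical.sl_coe_mul, ← Matrix.mulVec_mulVec, hd, Matrix.mulVec_smul, hc, smul_smul]⟩
  inv_mem' := by
    rintro x ⟨c, hc⟩
    refine ⟨c⁻¹, ?_⟩
    have h := congrArg ((x⁻¹ : Matrix.SpecialLinearGroup (Fin n) F) : Matrix (Fin n) (Fin n) F).mulVec hc
    rw [Matrix.mulVec_mulVec, Classical.sl_inv_mul, Matrix.one_mulVec, Matrix.mulVec_smul] at h
    have hc0 : c ≠ 0 := fun h0 => by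
      have := congrFun h i
      simp [h0] at this
    conv_rhs => rw [h, smul_smul, inv_mul_cancel₀ hc0, one_smul]

theorem psl_covered (k m : ℕ) (hk : 2 ≤ k) (hm : 1 ≤ m) (hn : n = m * k)
    (hroot : ∀ χ : F[X], χ.Monic → χ.natDegree = n → (∀ c, ¬ χ.IsRoot c) →
      ∀ f, Irreducible f → f ∣ χ → k ∣ f.natDegree) :
    Covered (Matrix.ProjectiveSpecialLinearGroup (Fin n) F) := by
  classical
  haveI : NeZero k := ⟨by omega⟩
  obtain ⟨p, hp⟩ := CharP.exists F
  haveI : Fact p.Prime := ⟨CharP.char_is_prime F p⟩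
  let K := FiniteField.Extension F p k
  haveI := Fintype.ofFinite K
  have hKk : Module.finrank F K = k := FiniteField.finrank_extension F p k
  have hn0 : 0 < n := by nlinarith
  haveI : Nontrivial (Fin n) := Fin.nontrivial_iff_two_le.2 (by nlinarith)
  let b : Module.Basis (Fin n) F (Fin m → K) := Module.finBasisOfFinrankEq F _ (by
    rw [Module.finrank_pi_fintype, Finset.sum_const, Finset.card_univ, Fintype.card_fin, hKk, smul_eq_mul, hn])
  let φ : K →ₐ[F] Matrix (Fin n) (Fin n) F :=
    (LinearMap.toMatrixAlgEquiv b).toAlgHom.comp (Algebra.lsmul F F (Fin m → K))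
  let pb := Field.powerBasisOfFiniteOfSeparable F K
  have hPi : Irreducible (minpoly F pb.gen) := minpoly.irreducible (IsIntegral.of_finite F _)
  have hPd : (minpoly F pb.gen).natDegree = k := by rw [pb.natDegree_minpoly, ← pb.finrank]; exact hKk
  let i : Fin n := ⟨0, hn0⟩
  refine covered_quotient _ (lineStab F n i) (centK F n φ) ?_ ?_ ?_ ?_ ?_
  · intro z hz
    obtain ⟨r, -, hr⟩ := Matrix.SpecialLinearGroup.mem_center_iff.1 hz
    refine ⟨r, ?_⟩
    rw [← hr]
    ext j
    simp [Matrix.mulVec_diagonal, Pi.single_apply]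
  · intro z hz a
    obtain ⟨r, -, hr⟩ := Matrix.SpecialLinearGroup.mem_center_iff.1 hz
    rw [← hr]
    exact Matrix.scalar_commute r (Commute.all r) _
  · intro h
    obtain ⟨j, hj⟩ := exists_ne i
    obtain ⟨g, hg⟩ := Classical.exists_SL_mulVec_eq (F := F) (v := Pi.single i 1) (w := Pi.single j 1)
      (Pi.single_ne_zero_iff.2 one_ne_zero) (Pi.single_ne_zero_iff.2 one_ne_zero)
    obtain ⟨c, hc⟩ : g ∈ lineStab F n i := h ▸ Subgroup.mem_top g
    have := congrFun (hg.symm.trans hc) j
    simp [hj] at this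
  · intro h
    have hs : φ pb.gen ∈ Set.range (Matrix.scalar (Fin n)) :=
      Matrix.mem_range_scalar_of_commute_transvectionStruct fun t => by
        have hmem : (⟨t.toMatrix, t.det⟩ : Matrix.SpecialLinearGroup (Fin n) F) ∈ centK F n φ := by
          rw [h]; trivial
        exact hmem pb.gen
    obtain ⟨r, hr⟩ := hs
    have hgen : pb.gen = algebraMap F K r := φ.toRingHom.injective (by
      show φ pb.gen = φ (algebraMap F K r)
      rw [AlgHom.commutes, ← hr]; rfl)
    rw [hgen, minpoly.eq_X_sub_C, natDegree_X_sub_C] at hPd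
    omega
  · intro g
    set M := (g : Matrix (Fin n) (Fin n) F)
    by_cases hroot' : ∃ c, M.charpoly.IsRoot c
    · obtain ⟨c, hc⟩ := hroot'
      have hev : Module.End.HasEigenvalue (Matrix.toLin' M) c := by
        rw [Module.End.hasEigenvalue_iff_isRoot_charpoly, Matrix.charpoly_toLin']
        exact hc
      obtain ⟨v, hv⟩ := hev.exists_hasEigenvector
      obtain ⟨x, hx⟩ := Classical.exists_SL_mulVec_eq (F := F) (v := v) (w := Pi.single i 1) hv.2
        (Pi.single_ne_zero_iff.2 one_ne_zero)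
      refine ⟨x, Or.inl ⟨c, ?_⟩⟩
      have hMv : M.mulVec v = c • v := by simpa using hv.apply_eq_smul
      rw [← hx, Classical.sl_coe_mul, Classical.sl_coe_mul, Matrix.mulVec_mulVec, mul_assoc, Classical.sl_inv_mul, mul_one,
        ← Matrix.mulVec_mulVec, hMv, Matrix.mulVec_smul]
    · push_neg at hroot'
      have hcm := M.charpoly_monic
      obtain ⟨a, ha⟩ := exists_root_mod (minpoly F pb.gen) hPi M.charpoly hcm.ne_zero fun f hf hfd => by
        rw [hPd]
        exact hroot _ hcm (by rw [Matrix.charpoly_natDegree_eq_dim, Fintype.card_fin]) hroot' f hf hfd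
      have hz : aeval (aeval M a) (minpoly F pb.gen) = 0 := by
        rw [← aeval_comp]
        exact aeval_eq_zero_of_dvd_aeval_eq_zero ha (Matrix.aeval_self_charpoly M)
      let ψ : K →ₐ[F] Matrix (Fin n) (Fin n) F := pb.lift (aeval M a) hz
      have hcomm : ∀ y, Commute M (ψ y) := fun y => by
        obtain ⟨r, rfl⟩ := pb.exists_eq_aeval' y
        rw [← aeval_algHom_apply, pb.lift_gen, ← aeval_comp]
        have := (Commute.all (X : F[X]) (r.comp a)).map (aeval M)
        rwa [aeval_X] at this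
      obtain ⟨x, hx⟩ := exists_conj φ hn0 ψ
      refine ⟨x, Or.inr fun y => ?_⟩
      have hX := Classical.sl_inv_mul x
      have hX' := Classical.sl_mul_inv x
      have hφ : φ y = x.1 * ψ y * (x⁻¹).1 := by rw [hx, mul_assoc, hX', mul_one]
      rw [Classical.sl_coe_mul, Classical.sl_coe_mul, hφ]
      show _ * _ = _ * _
      calc x.1 * M * (x⁻¹).1 * (x.1 * ψ y * (x⁻¹).1) = x.1 * M * ((x⁻¹).1 * x.1) * ψ y * (x⁻¹).1 := by
            simp only [mul_assoc]
        _ = x.1 * (M * ψ y) * (x⁻¹).1 := by rw [hX, mul_one]; simp only [mul_assoc]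
        _ = x.1 * ψ y * ((x⁻¹).1 * x.1) * M * (x⁻¹).1 := by rw [(hcomm y).eq, hX, mul_one]; simp only [mul_assoc]
        _ = x.1 * ψ y * (x⁻¹).1 * (x.1 * M * (x⁻¹).1) := by simp only [mul_assoc]

variable {F n}

theorem degree_facts (χ : F[X]) (hm : χ.Monic) {N : ℕ} (hd : χ.natDegree = N) (hno : ∀ c, ¬ χ.IsRoot c) {f : F[X]}
    (hf : Irreducible f) (hfd : f ∣ χ) : 2 ≤ f.natDegree ∧ f.natDegree ≤ N ∧ f.natDegree + 1 ≠ N := by
  obtain ⟨h, rfl⟩ := hfd
  have h0 : h ≠ 0 := right_ne_zero_of_mul hm.ne_zero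
  rw [natDegree_mul hf.ne_zero h0] at hd
  have hlin : ∀ g : F[X], g ∣ f * h → g.natDegree ≠ 1 := fun g hg h1 => by
    obtain ⟨c, hc⟩ := Polynomial.exists_root_of_degree_eq_one (degree_eq_iff_natDegree_eq_of_pos one_pos |>.2 h1)
    exact hno c (hc.dvd hg)
  refine ⟨?_, by omega, fun h1 => hlin h (dvd_mul_left _ _) (by omega)⟩
  have := hf.natDegree_pos
  have := hlin f (dvd_mul_right _ _)
  omega

theorem psl_two_covered : Covered (Matrix.ProjectiveSpecialLinearGroup (Fin 2) F) :=
  psl_covered F 2 2 1 le_rfl le_rfl rfl fun χ hm hd hno f hf hfd => by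
    obtain ⟨h1, h2, -⟩ := degree_facts χ hm hd hno hf hfd
    rw [show f.natDegree = 2 by omega]

theorem psl_three_covered : Covered (Matrix.ProjectiveSpecialLinearGroup (Fin 3) F) :=
  psl_covered F 3 3 1 (by norm_num) le_rfl rfl fun χ hm hd hno f hf hfd => by
    obtain ⟨h1, h2, h3⟩ := degree_facts χ hm hd hno hf hfd
    rw [show f.natDegree = 3 by omega]

theorem psl_four_covered : Covered (Matrix.ProjectiveSpecialLinearGroup (Fin 4) F) :=
  psl_covered F 4 2 2 le_rfl (by norm_num) rfl fun χ hm hd hno f hf hfd => by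
    obtain ⟨h1, h2, h3⟩ := degree_facts χ hm hd hno hf hfd
    rcases (show f.natDegree = 2 ∨ f.natDegree = 4 by omega) with h | h <;> rw [h] <;> norm_num

end Cover

end Cfsg.Lib.TwoClassCover
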