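import Mathlib
import Cfsg.Prelude.Def_G2
import Cfsg.Agent.Known.G2Zorn.Model
import Cfsg.Agent.Known.TwoClassCover.Linear

/-! In characteristic two every automorphism of the split octonions stabilises a quadratic composition subalgebra,
and there are two classes of these. -/

set_option autoImplicit false
set_option linter.unusedSectionVars false
set_option linter.style.haveILetI false

open Matrix
open scoped MatrixGroups

namespace Cfsg.Lib.TwoClassCover

open Cfsg.Lib.G2Zorn Cfsg.Lie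

universe u

variable {F : Type u} [Field F]

variable (F) in
/-- The unit octonion. -/
def oOne : Fin 8 → F := ![1, 0, 0, 0, 0, 0, 0, 1]

/-- The norm of an octonion. -/
def oNorm (x : Fin 8 → F) : F := x 0 * x 7 - dot3 (zA F x) (zB F x)

theorem oOne_mul (x : Fin 8 → F) : zornMul (oOne F) x = x := by
  funext i; fin_cases i <;> simp [oOne, zornMul, dot3, cross3]

theorem mul_oOne (x : Fin 8 → F) : zornMul x (oOne F) = x := by
  funext i; fin_cases i <;> simp [oOne, zornMul, dot3, cross3]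

theorem zorn_sq (x : Fin 8 → F) : zornMul x x = (x 0 + x 7) • x - oNorm x • oOne F := by
  funext i; fin_cases i <;> simp [oOne, oNorm, zornMul, dot3, cross3] <;> ring

theorem app_smul (φ : ↥(G2 F)) (c : F) (v : Fin 8 → F) : app φ (c • v) = c • app φ v := Matrix.mulVec_smul _ _ _

theorem app_inv_self (φ : ↥(G2 F)) (v : Fin 8 → F) : app φ (app φ⁻¹ v) = v := by
  rw [← app_mul, mul_inv_cancel]; simp [app]

theorem app_self_inv (φ : ↥(G2 F)) (v : Fin 8 → F) : app φ⁻¹ (app φ v) = v := by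
  rw [← app_mul, inv_mul_cancel]; simp [app]

theorem app_oOne (φ : ↥(G2 F)) : app φ (oOne F) = oOne F := by
  have h : ∀ y, zornMul (app φ (oOne F)) y = y := fun y => by
    conv_lhs => rw [← app_inv_self φ y, ← app_zornMul, oOne_mul, app_inv_self]
  rw [← mul_oOne (app φ (oOne F)), h]

theorem app_trace_norm (φ : ↥(G2 F)) (x : Fin 8 → F) :
    app φ x 0 + app φ x 7 = x 0 + x 7 ∧ oNorm (app φ x) = oNorm x := by
  by_cases hs : ∃ c : F, x = c • oOne F
  · obtain ⟨c, rfl⟩ := hs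
    rw [app_smul, app_oOne]
    exact ⟨rfl, rfl⟩
  set y := app φ x with hy
  have h1 : zornMul y y = (x 0 + x 7) • y - oNorm x • oOne F := by
    rw [hy, ← app_zornMul, zorn_sq, sub_eq_add_neg, ← neg_smul, app_add, app_smul, app_smul, app_oOne, neg_smul,
      ← sub_eq_add_neg]
  rw [zorn_sq] at h1
  have h2 : ((y 0 + y 7) - (x 0 + x 7)) • y = (oNorm y - oNorm x) • oOne F := by
    rw [sub_smul, sub_smul]
    linear_combination (norm := abel) h1
  by_cases h : (y 0 + y 7) - (x 0 + x 7) = 0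
  · refine ⟨sub_eq_zero.1 h, sub_eq_zero.1 ?_⟩
    rw [h, zero_smul] at h2
    simpa [oOne] using (congrFun h2 0).symm
  · exfalso
    apply hs
    refine ⟨((y 0 + y 7) - (x 0 + x 7))⁻¹ * (oNorm y - oNorm x), ?_⟩
    have h3 : y = (((y 0 + y 7) - (x 0 + x 7))⁻¹ * (oNorm y - oNorm x)) • oOne F := by
      rw [← smul_smul, ← h2, smul_smul, inv_mul_cancel₀ h, one_smul]
    have h4 := congrArg (app φ⁻¹) h3
    rwa [app_smul, app_oOne, hy, app_self_inv, ← hy] at h4

/-- An element of trace one and given norm. -/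
def Spec (c : F) (x : Fin 8 → F) : Prop := x 0 + x 7 = 1 ∧ oNorm x = c

theorem Spec.app {c : F} {x : Fin 8 → F} (h : Spec c x) (φ : ↥(G2 F)) : Spec c (G2Zorn.app φ x) :=
  ⟨(app_trace_norm φ x).1.trans h.1, (app_trace_norm φ x).2.trans h.2⟩

/-- Some octonion of trace one is fixed or moved by the unit. -/
theorem exists_stable [CharP F 2] (φ : ↥(G2 F)) :
    ∃ x : Fin 8 → F, x 0 + x 7 = 1 ∧ (app φ x = x ∨ app φ x = x + oOne F) := by
  have h2 : (2 : F) = 0 := CharTwo.two_eq_zero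
  by_cases hfix : ∃ x, app φ x = x ∧ x 0 + x 7 ≠ 0
  · obtain ⟨x, hx, hT⟩ := hfix
    refine ⟨(x 0 + x 7)⁻¹ • x, ?_, Or.inl (by rw [app_smul, hx])⟩
    rw [Pi.smul_apply, Pi.smul_apply, smul_eq_mul, smul_eq_mul, ← mul_add, inv_mul_cancel₀ hT]
  push Not at hfix
  let B : LinearMap.BilinForm F (Fin 8 → F) := LinearMap.mk₂ F
    (fun x y => x 0 * y 7 + x 7 * y 0 - (x 1 * y 4 + x 4 * y 1 + x 2 * y 5 + x 5 * y 2 + x 3 * y 6 + x 6 * y 3))
    (fun x x' y => by simp only [Pi.add_apply]; ring) (fun c x y => by simp only [Pi.smul_apply, smul_eq_mul]; ring)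
    (fun x y y' => by simp only [Pi.add_apply]; ring) (fun c x y => by simp only [Pi.smul_apply, smul_eq_mul]; ring)
  have hB : ∀ x y, B x y = x 0 * y 7 + x 7 * y 0 -
      (x 1 * y 4 + x 4 * y 1 + x 2 * y 5 + x 5 * y 2 + x 3 * y 6 + x 6 * y 3) := fun x y => rfl
  have hpol : ∀ x y, oNorm (x + y) = oNorm x + oNorm y + B x y := fun x y => by
    rw [hB]; simp [oNorm, dot3]; ring
  have hinv : ∀ x y, B (app φ x) (app φ y) = B x y := fun x y => by
    have h := hpol (app φ x) (app φ y)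
    rw [← app_add, (app_trace_norm φ _).2, (app_trace_norm φ _).2, (app_trace_norm φ _).2, hpol] at h
    linear_combination -h
  have hsymm : ∀ x y, B x y = B y x := fun x y => by rw [hB, hB]; ring
  have hnd : ∀ x, (∀ y, B x y = 0) → x = 0 := fun x hx => by
    have e : ∀ i, B x (Pi.single i 1) = 0 := fun i => hx _
    have h0 := e 0; have h1 := e 1; have h2' := e 2; have h3 := e 3
    have h4 := e 4; have h5 := e 5; have h6 := e 6; have h7 := e 7
    simp [hB] at h0 h1 h2' h3 h4 h5 h6 h7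
    funext i; fin_cases i <;> simp <;> assumption
  let D : (Fin 8 → F) →ₗ[F] (Fin 8 → F) :=
    Matrix.toLin' ((φ.1 : GL (Fin 8) F) : Matrix (Fin 8) (Fin 8) F) - LinearMap.id
  have hD : ∀ x, D x = app φ x - x := fun x => rfl
  have hle : LinearMap.range D ≤ B.orthogonal (LinearMap.ker D) := by
    rintro _ ⟨y, rfl⟩
    rw [LinearMap.BilinForm.mem_orthogonal_iff]
    intro x hx
    rw [LinearMap.mem_ker, hD, sub_eq_zero] at hx
    show B x (D y) = 0
    rw [hD, map_sub]
    nth_rw 1 [← hx]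
    rw [hinv, sub_self]
  have hBn : B.Nondegenerate := ⟨hnd, fun y hy => hnd y fun x => (hsymm y x).trans (hy x)⟩
  have heq : LinearMap.range D = B.orthogonal (LinearMap.ker D) := by
    refine Submodule.eq_of_le_of_finrank_le hle ?_
    have h1 := D.finrank_range_add_finrank_ker
    have h2 := LinearMap.BilinForm.finrank_orthogonal (B := B) hBn (LinearMap.ker D)
    omega
  have hone : oOne F ∈ LinearMap.range D := by
    rw [heq, LinearMap.BilinForm.mem_orthogonal_iff]
    intro x hx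
    rw [LinearMap.mem_ker, hD, sub_eq_zero] at hx
    show B x (oOne F) = 0
    rw [hB]
    simpa [oOne] using hfix x hx
  obtain ⟨v, hv⟩ := hone
  rw [hD, sub_eq_iff_eq_add'] at hv
  refine ⟨v, ?_, Or.inr hv⟩
  have h := (app_trace_norm φ v).2
  rw [hv, hpol, hB] at h
  simp [oOne, oNorm, dot3] at h
  linear_combination h - h2

section SLThree

local notation "M₃" => Matrix (Fin 3) (Fin 3) F

theorem dot3_map (A : M₃) (u v : Fin 3 → F) : dot3 (A *ᵥ u) (A.adjugateᵀ *ᵥ v) = A.det * dot3 u v := by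
  simp [dot3, Matrix.adjugate_fin_three, Matrix.det_fin_three, Matrix.mulVec, dotProduct, Fin.sum_univ_three]
  ring

theorem dot3_comm (u v : Fin 3 → F) : dot3 u v = dot3 v u := by simp [dot3]; ring

theorem cross3_map (A : M₃) (u v : Fin 3 → F) :
    cross3 (A *ᵥ u) (A *ᵥ v) = A.adjugateᵀ *ᵥ cross3 u v := by
  funext i
  fin_cases i <;>
    simp [cross3, Matrix.adjugate_fin_three, Matrix.mulVec, dotProduct, Fin.sum_univ_three] <;> ring

theorem cross3_map' (A : M₃) (u v : Fin 3 → F) :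
    cross3 (A.adjugateᵀ *ᵥ u) (A.adjugateᵀ *ᵥ v) = A.det • (A *ᵥ cross3 u v) := by
  funext i
  fin_cases i <;>
    simp [cross3, Matrix.adjugate_fin_three, Matrix.det_fin_three, Matrix.mulVec, dotProduct, Fin.sum_univ_three] <;>
    ring

/-- The action of a matrix on Zorn vectors. -/
noncomputable def slLin (A : M₃) : (Fin 8 → F) →ₗ[F] (Fin 8 → F) where
  toFun x := ![x 0, (A *ᵥ zA F x) 0, (A *ᵥ zA F x) 1, (A *ᵥ zA F x) 2, (A.adjugateᵀ *ᵥ zB F x) 0,
    (A.adjugateᵀ *ᵥ zB F x) 1, (A.adjugateᵀ *ᵥ zB F x) 2, x 7]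
  map_add' x y := by
    funext i; fin_cases i <;> simp [Matrix.mulVec, dotProduct, Fin.sum_univ_three] <;> ring
  map_smul' c x := by
    funext i; fin_cases i <;> simp [Matrix.mulVec, dotProduct, Fin.sum_univ_three] <;> ring

theorem slLin_parts (A : M₃) (x : Fin 8 → F) :
    slLin A x 0 = x 0 ∧ zA F (slLin A x) = A *ᵥ zA F x ∧ zB F (slLin A x) = A.adjugateᵀ *ᵥ zB F x ∧ slLin A x 7 = x 7 := by
  refine ⟨rfl, ?_, ?_, rfl⟩ <;> funext i <;> fin_cases i <;> rfl

theorem slLin_mul {A : M₃} (hA : A.det = 1) (x y : Fin 8 → F) :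
    slLin A (zornMul x y) = zornMul (slLin A x) (slLin A y) := by
  obtain ⟨hx0, hxa, hxb, hx7⟩ := slLin_parts A x
  obtain ⟨hy0, hya, hyb, hy7⟩ := slLin_parts A y
  have hzA : zA F (zornMul x y) = x 0 • zA F y + y 7 • zA F x - cross3 (zB F x) (zB F y) := by
    funext i; fin_cases i <;> rfl
  have hzB : zB F (zornMul x y) = y 0 • zB F x + x 7 • zB F y + cross3 (zA F x) (zA F y) := by
    funext i; fin_cases i <;> rfl
  obtain ⟨hz0, hza, hzb, hz7⟩ := slLin_parts A (zornMul x y)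
  rw [hzA, Matrix.mulVec_sub, Matrix.mulVec_add, Matrix.mulVec_smul, Matrix.mulVec_smul] at hza
  rw [hzB, Matrix.mulVec_add, Matrix.mulVec_add, Matrix.mulVec_smul, Matrix.mulVec_smul] at hzb
  have hta : zA F (zornMul (slLin A x) (slLin A y)) = slLin A x 0 • zA F (slLin A y) + slLin A y 7 • zA F (slLin A x) -
      cross3 (zB F (slLin A x)) (zB F (slLin A y)) := by funext i; fin_cases i <;> rfl
  have htb : zB F (zornMul (slLin A x) (slLin A y)) = slLin A y 0 • zB F (slLin A x) + slLin A x 7 • zB F (slLin A y) +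
      cross3 (zA F (slLin A x)) (zA F (slLin A y)) := by funext i; fin_cases i <;> rfl
  rw [hxb, hyb, hxa, hya, cross3_map', hA, one_smul, hx0, hy7, ← hza] at hta
  rw [hxb, hyb, hxa, hya, cross3_map, hx7, hy0, ← hzb] at htb
  funext i
  fin_cases i
  · show x 0 * y 0 + dot3 (zA F x) (zB F y) =
      slLin A x 0 * slLin A y 0 + dot3 (zA F (slLin A x)) (zB F (slLin A y))
    rw [hx0, hy0, hxa, hyb, dot3_map, hA, one_mul]
  · exact (congrFun hta 0).symm
  · exact (congrFun hta 1).symm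
  · exact (congrFun hta 2).symm
  · exact (congrFun htb 0).symm
  · exact (congrFun htb 1).symm
  · exact (congrFun htb 2).symm
  · show dot3 (zB F x) (zA F y) + x 7 * y 7 =
      dot3 (zB F (slLin A x)) (zA F (slLin A y)) + slLin A x 7 * slLin A y 7
    rw [hx7, hy7, hxb, hya, dot3_comm, dot3_comm (A.adjugateᵀ *ᵥ zB F x), dot3_map, hA, one_mul]

theorem exists_slElem {A : M₃} (hA : A.det = 1) : ∃ φ : ↥(G2 F), ∀ x, app φ x = slLin A x := by
  have hA1 : Function.Injective fun v => A *ᵥ v :=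
    Matrix.mulVec_injective_iff_isUnit.2 ((Matrix.isUnit_iff_isUnit_det _).2 (by rw [hA]; exact isUnit_one))
  have hA2 : Function.Injective fun v => A.adjugateᵀ *ᵥ v :=
    Matrix.mulVec_injective_iff_isUnit.2 ((Matrix.isUnit_iff_isUnit_det _).2 (by
      rw [Matrix.det_transpose, Matrix.det_adjugate, hA, one_pow]; exact isUnit_one))
  have hinj : Function.Injective fun v => LinearMap.toMatrix' (slLin A) *ᵥ v := fun x y h => by
    simp only [LinearMap.toMatrix'_mulVec] at h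
    obtain ⟨hx0, hxa, hxb, hx7⟩ := slLin_parts A x
    obtain ⟨hy0, hya, hyb, hy7⟩ := slLin_parts A y
    have ha : zA F x = zA F y := hA1 (hxa.symm.trans ((congrArg (zA F) h).trans hya))
    have hb : zB F x = zB F y := hA2 (hxb.symm.trans ((congrArg (zB F) h).trans hyb))
    funext i
    fin_cases i
    exacts [hx0.symm.trans ((congrFun h 0).trans hy0), congrFun ha 0, congrFun ha 1, congrFun ha 2,
      congrFun hb 0, congrFun hb 1, congrFun hb 2, hx7.symm.trans ((congrFun h 7).trans hy7)]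
  refine ⟨⟨(Matrix.mulVec_injective_iff_isUnit.1 hinj).unit, fun u v => ?_⟩, fun x => ?_⟩
  · show LinearMap.toMatrix' (slLin A) *ᵥ zornMul u v =
      zornMul (LinearMap.toMatrix' (slLin A) *ᵥ u) (LinearMap.toMatrix' (slLin A) *ᵥ v)
    simp only [LinearMap.toMatrix'_mulVec]
    exact slLin_mul hA u v
  · show LinearMap.toMatrix' (slLin A) *ᵥ x = _
    rw [LinearMap.toMatrix'_mulVec]

/-- A cyclic permutation of the coordinates of both vectors. -/
theorem exists_shift : ∃ φ : ↥(G2 F), ∀ x, app φ x = ![x 0, x 2, x 3, x 1, x 5, x 6, x 4, x 7] := by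
  obtain ⟨φ, hφ⟩ := exists_slElem (F := F) (A := !![0, 1, 0; 0, 0, 1; 1, 0, 0]) (by simp [Matrix.det_fin_three])
  refine ⟨φ, fun x => ?_⟩
  rw [hφ]
  funext i
  fin_cases i <;> simp [slLin, Matrix.adjugate_fin_three, Matrix.mulVec, dotProduct, Fin.sum_univ_three]

theorem exists_move_A {x : Fin 8 → F} (h : zA F x ≠ 0) :
    ∃ φ : ↥(G2 F), app φ x 1 ≠ 0 ∧ app φ x 0 = x 0 ∧ app φ x 7 = x 7 := by
  obtain ⟨σ, hσ⟩ := exists_shift (F := F)
  by_cases h1 : x 1 ≠ 0
  · exact ⟨1, by simpa [app] using h1⟩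
  by_cases h2 : x 2 ≠ 0
  · exact ⟨σ, by simpa [hσ] using h2⟩
  refine ⟨σ * σ, ?_⟩
  rw [app_mul, hσ, hσ]
  push Not at h1 h2
  refine ⟨fun h3 => h ?_, rfl, rfl⟩
  funext i
  fin_cases i <;> first | assumption | exact h3

theorem exists_move_B {x : Fin 8 → F} (h : zB F x ≠ 0) :
    ∃ φ : ↥(G2 F), app φ x 4 ≠ 0 ∧ app φ x 0 = x 0 ∧ app φ x 7 = x 7 := by
  obtain ⟨σ, hσ⟩ := exists_shift (F := F)
  by_cases h1 : x 4 ≠ 0
  · exact ⟨1, by simpa [app] using h1⟩
  by_cases h2 : x 5 ≠ 0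
  · exact ⟨σ, by simpa [hσ] using h2⟩
  refine ⟨σ * σ, ?_⟩
  rw [app_mul, hσ, hσ]
  push Not at h1 h2
  refine ⟨fun h3 => h ?_, rfl, rfl⟩
  funext i
  fin_cases i <;> first | assumption | exact h3

/-- Vectors with nonzero product are moved to multiples of the first basis vector. -/
theorem exists_flatten {x : Fin 8 → F} (h : dot3 (zA F x) (zB F x) ≠ 0) :
    ∃ φ : ↥(G2 F), app φ x 2 = 0 ∧ app φ x 3 = 0 ∧ app φ x 5 = 0 ∧ app φ x 6 = 0 := by
  have hne : zA F x ≠ 0 := fun h0 => h (by rw [h0]; simp [dot3])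
  obtain ⟨σ, hσ, h0, h7⟩ := exists_move_A hne
  set y := app σ x with hy
  have hd : dot3 (zA F y) (zB F y) ≠ 0 := by
    have h1 := (app_trace_norm σ x).2
    rw [← hy, oNorm, oNorm, h0, h7] at h1
    rwa [show dot3 (zA F y) (zB F y) = dot3 (zA F x) (zB F x) by linear_combination -h1]
  set n := dot3 (zA F y) (zB F y) with hn
  let A : M₃ := !![n⁻¹ * y 4, n⁻¹ * y 5, n⁻¹ * y 6;
    -((y 1)⁻¹ * y 2), 1, 0;
    -y 3, 0, y 1]
  have hn' : y 1 * y 4 + y 2 * y 5 + y 3 * y 6 = n := rfl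
  have hA : A.det = 1 := by
    simp [A, Matrix.det_fin_three]
    field_simp
    linear_combination hn'
  obtain ⟨φ, hφ⟩ := exists_slElem hA
  refine ⟨φ * σ, ?_⟩
  rw [app_mul, ← hy, hφ]
  refine ⟨?_, ?_, ?_, ?_⟩ <;>
    simp [slLin, A, Matrix.adjugate_fin_three, Matrix.mulVec, dotProduct, Fin.sum_univ_three] <;> field_simp <;> ring

end SLThree

theorem exists_unip (s : F) : (∃ φ : ↥(G2 F), ∀ x, app φ x 0 = x 0 + s * x 4) ∧
    ∃ φ : ↥(G2 F), ∀ x, app φ x 0 = x 0 - s * x 1 := by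
  have key : ∀ g : GL (Fin 2) F, ∃ φ : ↥(G2 F), ∀ x,
      Ea (app φ x) * (g : Matrix (Fin 2) (Fin 2) F) = (g : Matrix (Fin 2) (Fin 2) F) * Ea x := fun g => by
    refine ⟨Phi ⟨(g, g), mem_L.2 rfl⟩, fun x => ?_⟩
    conv_lhs => rw [← E_Ea_Eb x, app_Phi, Ea_E, mul_assoc, ← Units.val_mul, inv_mul_cancel, Units.val_one, mul_one]
  constructor
  · obtain ⟨φ, hφ⟩ := key (Matrix.GeneralLinearGroup.mkOfDetNeZero !![1, s; 0, 1] (by simp [Matrix.det_fin_two]))
    refine ⟨φ, fun x => ?_⟩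
    have h := congrFun (congrFun (hφ x) 0) 0
    simp [Ea, Matrix.mul_apply, Fin.sum_univ_two, Matrix.GeneralLinearGroup.mkOfDetNeZero] at h
    linear_combination h
  · obtain ⟨φ, hφ⟩ := key (Matrix.GeneralLinearGroup.mkOfDetNeZero !![1, 0; s, 1] (by simp [Matrix.det_fin_two]))
    refine ⟨φ, fun x => ?_⟩
    have h := congrFun (congrFun (hφ x) 0) 0
    have h' := congrFun (congrFun (hφ x) 0) 1
    simp [Ea, Matrix.mul_apply, Fin.sum_univ_two, Matrix.GeneralLinearGroup.mkOfDetNeZero] at h h'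
    linear_combination h - s * h'

/-- The standard element of trace one and norm `c`. -/
def std (c : F) : Fin 8 → F := E !![0, -c; 1, 1] 0

theorem exists_to_std_quat (c : F) (a : Matrix (Fin 2) (Fin 2) F) (ht : a 0 0 + a 1 1 = 1) (hdet : a.det = c)
    (hns : ¬ (a 0 1 = 0 ∧ a 1 0 = 0 ∧ a 0 0 = a 1 1)) : ∃ φ : ↥(G2 F), app φ (E a 0) = std c := by
  rw [Matrix.det_fin_two] at hdet
  obtain ⟨P, hP0, hP⟩ : ∃ P : Matrix (Fin 2) (Fin 2) F, P.det ≠ 0 ∧ a * P = P * !![0, -c; 1, 1] := by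
    have mk : ∀ u v : F, (!![u, a 0 0 * u + a 0 1 * v; v, a 1 0 * u + a 1 1 * v]).det ≠ 0 →
        ∃ P : Matrix (Fin 2) (Fin 2) F, P.det ≠ 0 ∧ a * P = P * !![0, -c; 1, 1] := fun u v h => by
      refine ⟨_, h, ?_⟩
      ext i j
      fin_cases i <;> fin_cases j <;> simp [Matrix.mul_apply, Fin.sum_univ_two]
      · linear_combination (a 0 0 * u + a 0 1 * v) * ht - u * hdet
      · linear_combination (a 1 0 * u + a 1 1 * v) * ht - v * hdet
    by_cases h1 : a 1 0 ≠ 0
    · exact mk 1 0 (by simpa [Matrix.det_fin_two] using h1)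
    by_cases h2 : a 0 1 ≠ 0
    · exact mk 0 1 (by simpa [Matrix.det_fin_two] using h2)
    push Not at h1 h2
    refine mk 1 1 ?_
    simp [Matrix.det_fin_two, h1, h2, sub_ne_zero]
    exact fun h => hns ⟨h2, h1, h.symm⟩
  let g := (Matrix.GeneralLinearGroup.mkOfDetNeZero P hP0)⁻¹
  refine ⟨Phi ⟨(g, g), mem_L.2 rfl⟩, ?_⟩
  rw [app_Phi, mul_zero, zero_mul, std]
  congr 1
  show (g : Matrix (Fin 2) (Fin 2) F) * a * ((g⁻¹ : GL (Fin 2) F) : Matrix (Fin 2) (Fin 2) F) = _
  rw [mul_assoc, show ((g⁻¹ : GL (Fin 2) F) : Matrix (Fin 2) (Fin 2) F) = P by simp [g], hP, ← mul_assoc,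
    show (g : Matrix (Fin 2) (Fin 2) F) * P = 1 from
      (Matrix.GeneralLinearGroup.mkOfDetNeZero P hP0).inv_val, one_mul]

theorem exists_alpha [Fintype F] (hq : 3 ≤ Fintype.card F) (c : F) : ∃ r : F, r * (1 - r) ≠ c := by
  classical
  by_contra h
  push Not at h
  have hroots : (Finset.univ : Finset F) ⊆ ((Polynomial.X ^ 2 - Polynomial.X + Polynomial.C c : Polynomial F)).roots.toFinset :=
    fun r _ => by
      rw [Multiset.mem_toFinset, Polynomial.mem_roots (fun h0 => by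
        have := congrArg (fun p => Polynomial.coeff p 2) h0
        simp [Polynomial.coeff_X, Polynomial.coeff_C] at this)]
      simp only [Polynomial.IsRoot, Polynomial.eval_add, Polynomial.eval_sub, Polynomial.eval_pow, Polynomial.eval_X,
        Polynomial.eval_C]
      linear_combination -(h r)
  have h1 := Finset.card_le_card hroots
  have h2 := (Polynomial.X ^ 2 - Polynomial.X + Polynomial.C c : Polynomial F).card_roots'
  have h3 : (Polynomial.X ^ 2 - Polynomial.X + Polynomial.C c : Polynomial F).natDegree = 2 := by compute_degree!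
  have h4 := Multiset.toFinset_card_le (Polynomial.X ^ 2 - Polynomial.X + Polynomial.C c : Polynomial F).roots
  rw [Finset.card_univ] at h1
  omega

theorem exists_to_std [Fintype F] [CharP F 2] (hq : 3 ≤ Fintype.card F) {c : F} {x : Fin 8 → F} (hx : Spec c x) :
    ∃ φ : ↥(G2 F), app φ x = std c := by
  have h2 : (2 : F) = 0 := CharTwo.two_eq_zero
  have hflat : ∀ y : Fin 8 → F, Spec c y → y 2 = 0 → y 3 = 0 → y 5 = 0 → y 6 = 0 →
      ∃ φ : ↥(G2 F), app φ y = std c := by
    intro y hy e2 e3 e5 e6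
    have hE : y = E !![y 0, y 1; y 4, y 7] 0 := by
      funext i; fin_cases i <;> simp [E, e2, e3, e5, e6]
    rw [hE]
    refine exists_to_std_quat c _ hy.1 ?_ ?_
    · rw [← hy.2]
      simp [Matrix.det_fin_two, oNorm, dot3, e2, e3]
    · rintro ⟨-, -, h⟩
      have h' : y 0 = y 7 := h
      exact one_ne_zero (α := F) (by linear_combination -hy.1 - h' + y 0 * h2)
  have hdot : ∀ y : Fin 8 → F, Spec c y → y 0 * (1 - y 0) ≠ c →
      ∃ φ : ↥(G2 F), app φ y = std c := by
    intro y hy hne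
    obtain ⟨φ, e2, e3, e5, e6⟩ := exists_flatten (x := y) (fun h => hne (by
      have h' := hy.2
      rw [oNorm, h] at h'
      linear_combination h' - y 0 * hy.1))
    obtain ⟨ψ, hψ⟩ := hflat _ (hy.app φ) e2 e3 e5 e6
    exact ⟨ψ * φ, by rw [app_mul, hψ]⟩
  obtain ⟨r, hr⟩ := exists_alpha hq c
  by_cases hB : zB F x ≠ 0
  · obtain ⟨σ, hσ, -, -⟩ := exists_move_B hB
    obtain ⟨⟨φ, hφ⟩, -⟩ := exists_unip ((r - app σ x 0) * (app σ x 4)⁻¹)
    obtain ⟨ψ, hψ⟩ := hdot _ ((hx.app σ).app φ) (by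
      rw [hφ, mul_assoc, inv_mul_cancel₀ hσ, mul_one, add_sub_cancel]; exact hr)
    exact ⟨ψ * φ * σ, by rw [app_mul, app_mul, hψ]⟩
  push Not at hB
  by_cases hA : zA F x ≠ 0
  · obtain ⟨σ, hσ, -, -⟩ := exists_move_A hA
    obtain ⟨-, ⟨φ, hφ⟩⟩ := exists_unip ((app σ x 0 - r) * (app σ x 1)⁻¹)
    obtain ⟨ψ, hψ⟩ := hdot _ ((hx.app σ).app φ) (by
      rw [hφ, mul_assoc, inv_mul_cancel₀ hσ, mul_one, sub_sub_cancel]; exact hr)
    exact ⟨ψ * φ * σ, by rw [app_mul, app_mul, hψ]⟩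
  push Not at hA
  exact hflat x hx (congrFun hA 1) (congrFun hA 2) (congrFun hB 1) (congrFun hB 2)

/-- The stabiliser of the subalgebra spanned by an element and the unit. -/
def algStab [CharP F 2] (x : Fin 8 → F) : Subgroup ↥(G2 F) where
  carrier := {g | app g x = x ∨ app g x = x + oOne F}
  one_mem' := Or.inl (by simp [app])
  mul_mem' := by
    intro g h hg hh
    have hadd : x + oOne F + oOne F = x := by funext i; simp [add_assoc, CharTwo.add_self_eq_zero]
    rcases hh with hh | hh <;> rcases hg with hg | hg <;>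
      simp [Set.mem_setOf_eq, app_mul, hh, app_add, hg, app_oOne, hadd]
  inv_mem' := by
    intro g hg
    have hadd : x + oOne F + oOne F = x := by funext i; simp [add_assoc, CharTwo.add_self_eq_zero]
    rcases hg with hg | hg
    · left
      conv_lhs => rw [← hg]
      rw [app_self_inv]
    · right
      calc app g⁻¹ x = app g⁻¹ (app g x + oOne F) := by rw [hg, hadd]
        _ = x + oOne F := by rw [app_add, app_self_inv, app_oOne]

theorem algStab_ne_top [CharP F 2] (c : F) : algStab (std c) ≠ ⊤ := by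
  intro h
  obtain ⟨σ, hσ⟩ := exists_shift (F := F)
  rcases (show σ ∈ algStab (std c) by rw [h]; trivial) with h1 | h1 <;>
  · rw [hσ] at h1
    have := congrFun h1 4
    simp [std, E, oOne] at this

theorem exists_coset [Fintype F] [CharP F 2] :
    ∃ c0 : F, ∀ c, ∃ t, c = t ^ 2 + t ∨ c = c0 + (t ^ 2 + t) := by
  classical
  let f : F →+ F :=
    { toFun := fun t => t ^ 2 + t
      map_zero' := by simp
      map_add' := fun s t => by rw [CharTwo.add_sq]; ring }
  have hker : Nat.card f.ker = 2 := by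
    rw [Nat.card_eq_two_iff]
    refine ⟨0, ⟨1, by simp [f, CharTwo.add_self_eq_zero]⟩, fun h => zero_ne_one (congrArg Subtype.val h), ?_⟩
    refine Set.eq_univ_of_forall fun t => ?_
    have ht0 : (t : F) ^ 2 + (t : F) = 0 := t.2
    have ht : (t : F) * ((t : F) + 1) = 0 := by linear_combination ht0
    rcases mul_eq_zero.1 ht with h | h
    · exact Or.inl (Subtype.ext h)
    · exact Or.inr (Subtype.ext (CharTwo.add_eq_zero.1 h))
  have hidx : f.range.index = 2 := by
    have h1 := f.range.card_mul_index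
    have h2 := f.ker.card_mul_index
    rw [AddSubgroup.index_ker, hker] at h2
    rw [← h2, mul_comm 2] at h1
    exact Nat.eq_of_mul_eq_mul_left Nat.card_pos h1
  obtain ⟨c0, hc0⟩ := AddSubgroup.index_eq_two_iff.1 hidx
  refine ⟨c0, fun c => ?_⟩
  rcases hc0 c with ⟨⟨t, ht⟩, -⟩ | ⟨⟨t, ht⟩, -⟩
  · exact ⟨t, Or.inr (by rw [show t ^ 2 + t = c + c0 from ht]; linear_combination -c0 * (CharTwo.two_eq_zero (R := F)))⟩
  · exact ⟨t, Or.inl ht.symm⟩

theorem g2_covered [Fintype F] [CharP F 2] (hq : 3 ≤ Fintype.card F) : Covered ↥(G2 F) := by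
  have h2 : (2 : F) = 0 := CharTwo.two_eq_zero
  obtain ⟨c0, hc0⟩ := exists_coset (F := F)
  refine ⟨algStab (std 0), algStab (std c0), algStab_ne_top 0, algStab_ne_top c0, fun g => ?_⟩
  obtain ⟨x, hT, hg⟩ := exists_stable g
  obtain ⟨t, ht⟩ := hc0 (oNorm x)
  have key : ∀ d, oNorm x = d + (t ^ 2 + t) → ∃ h : ↥(G2 F), h * g * h⁻¹ ∈ algStab (std d) := fun d hd => by
    have hsp : Spec d (x + t • oOne F) := by
      refine ⟨?_, ?_⟩
      · simp [oOne]
        linear_combination hT + t * h2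
      · simp [oOne, oNorm, dot3, Matrix.vecHead, Matrix.vecTail] at hd ⊢
        linear_combination hd + t * hT + (t + t ^ 2) * h2
    obtain ⟨h, hh⟩ := exists_to_std hq hsp
    refine ⟨h, ?_⟩
    have hinv : app h⁻¹ (std d) = x + t • oOne F := by rw [← hh, app_self_inv]
    show app (h * g * h⁻¹) (std d) = std d ∨ app (h * g * h⁻¹) (std d) = std d + oOne F
    rw [app_mul, app_mul, hinv, app_add, app_smul, app_oOne]
    rcases hg with hg | hg
    · left; rw [hg, hh]
    · right; rw [hg, add_right_comm, app_add, hh, app_oOne]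
  rcases ht with ht | ht
  · obtain ⟨h, hh⟩ := key 0 (by rw [ht, zero_add])
    exact ⟨h, Or.inl hh⟩
  · obtain ⟨h, hh⟩ := key c0 ht
    exact ⟨h, Or.inr hh⟩

end Cfsg.Lib.TwoClassCover
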