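import Mathlib
import Cfsg.Prelude.Def_Classical
import Cfsg.Agent.Known.TwoClassCover.Linear
import Cfsg.Agent.Classical.Symp.Matrix
import Cfsg.Agent.Classical.Symp.OrthMax
import Cfsg.Agent.Classical.Misc.EvenFormDerangement

/-! In characteristic two every symplectic element preserves a quadratic form, so the symplectic group is covered by
the conjugates of two orthogonal groups. -/

set_option autoImplicit false
set_option linter.unusedSectionVars false
set_option linter.style.haveILetI false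

open QuadraticMap Matrix

namespace Cfsg.Lib.TwoClassCover

open Cfsg.Lib.Classical Cfsg.Lib.Classical.EvenForm

universe u

variable {F : Type u} [Field F] [Fintype F] [CharP F 2] {d : ℕ}

/-- The elements preserving a quadratic form. -/
def formGroup (Q : QuadraticForm F (Fin d ⊕ Fin d → F)) : Subgroup (symplecticGroup (Fin d) F) where
  carrier := {g | ∀ v, Q ((g : Matrix (Fin d ⊕ Fin d) (Fin d ⊕ Fin d) F) *ᵥ v) = Q v}
  one_mem' v := by simp
  mul_mem' hg hh v := by rw [Submonoid.coe_mul, ← Matrix.mulVec_mulVec, hg, hh]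
  inv_mem' {g} hg v := by
    conv_rhs => rw [← Matrix.one_mulVec v, ← Submonoid.coe_one, ← mul_inv_cancel g, Submonoid.coe_mul,
      ← Matrix.mulVec_mulVec, hg]

/-- Every element preserves some quadratic form with the given polar form. -/
theorem exists_preserved (g : symplecticGroup (Fin d) F) :
    ∃ Q : QuadraticForm F (Fin d ⊕ Fin d → F), (∀ u v, polar (⇑Q) u v = Cfsg.sympForm d F u v) ∧ g ∈ formGroup Q := by
  classical
  set X := (g : Matrix (Fin d ⊕ Fin d) (Fin d ⊕ Fin d) F)
  let Q0 := HypQuad.plusForm d F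
  have hB : ∀ u v, polar (⇑Q0) (X.mulVec u) (X.mulVec v) = polar (⇑Q0) u v := fun u v => by
    rw [plus_polar, plus_polar, ← sympBilin_eq_sympForm, ← sympBilin_eq_sympForm]
    exact (mem_symplectic_iff_form X).1 g.2 u v
  obtain ⟨s, hs⟩ := exists_root (F := F) (fun v => Q0 (X.mulVec v) + Q0 v)
    (fun u v => by
      rw [Matrix.mulVec_add, QuadraticMap.map_add (f := Q0), QuadraticMap.map_add (f := Q0) u v, hB]
      linear_combination polar (⇑Q0) u v * (CharTwo.two_eq_zero (R := F)))
    (fun c v => by rw [Matrix.mulVec_smul, QuadraticMap.map_smul, QuadraticMap.map_smul, smul_eq_mul, smul_eq_mul]; ring)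
  let N : (Fin d ⊕ Fin d → F) →ₗ[F] (Fin d ⊕ Fin d → F) := Matrix.toLin' X + LinearMap.id
  have hN : ∀ v, N v = X.mulVec v + v := fun v => by simp [N]
  have htwo : ∀ z : Fin d ⊕ Fin d → F, z + z = 0 := fun z => funext fun i => CharTwo.add_self_eq_zero (z i)
  have hker : LinearMap.ker N ≤ LinearMap.ker s := fun v hv => by
    rw [LinearMap.mem_ker, hN] at hv
    rw [LinearMap.mem_ker]
    refine pow_eq_zero_iff two_ne_zero |>.mp ?_
    have : X.mulVec v = v := funext fun i => CharTwo.add_eq_zero.mp (congrFun hv i)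
    rw [hs, this, CharTwo.add_self_eq_zero]
  obtain ⟨L, hL⟩ := LinearMap.exists_extend
    (((LinearMap.ker N).liftQ s hker).comp N.quotKerEquivRange.symm.toLinearMap)
  have hLN : ∀ v, L (N v) = s v := fun v => by
    have := LinearMap.congr_fun hL ⟨N v, LinearMap.mem_range_self N v⟩
    simp only [LinearMap.comp_apply, Submodule.subtype_apply, LinearEquiv.coe_coe] at this
    rw [this, LinearMap.quotKerEquivRange_symm_apply_image N v (LinearMap.mem_range_self N v)]
    rfl
  refine ⟨Q0 + QuadraticMap.linMulLin L L, fun u v => ?_, fun v => ?_⟩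
  · rw [← plus_polar u v]
    simp only [polar, QuadraticMap.add_apply, QuadraticMap.linMulLin_apply, map_add]
    linear_combination L u * L v * (CharTwo.two_eq_zero (R := F))
  · show (Q0 + QuadraticMap.linMulLin L L) (X.mulVec v) = _
    have h2 := hs v
    have h3 : L (X.mulVec v) = L v + s v := by
      rw [← hLN, hN, map_add]
      linear_combination -(L v) * (CharTwo.two_eq_zero (R := F))
    simp only [QuadraticMap.add_apply, QuadraticMap.linMulLin_apply, h3]
    linear_combination h2 + (Q0 (X.mulVec v) + L v * s v) * (CharTwo.two_eq_zero (R := F))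

theorem formGroup_ne_top (hd : 2 ≤ d) (Q : QuadraticForm F (Fin d ⊕ Fin d → F))
    (hQ : ∀ u v, polar (⇑Q) u v = Cfsg.sympForm d F u v) : formGroup Q ≠ ⊤ := by
  intro h
  haveI : Fact (Nat.Prime 2) := ⟨Nat.prime_two⟩
  have hsq : ∀ a : F, ∃ r : F, r ^ 2 = a := fun a =>
    ⟨(frobeniusEquiv F 2).symm a, frobeniusEquiv_symm_pow_p F 2 a⟩
  obtain ⟨g, hg⟩ := qMax_exists_not_isom (B := sympBilin d F) (Q := ⇑Q) (CharTwo.two_eq_zero) hsq
    (fun c x => by rw [QuadraticMap.map_smul, smul_eq_mul]; ring)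
    (fun x y => by rw [QuadraticMap.map_add (f := Q), hQ, sympBilin_eq_sympForm])
    (sympBilin_isAlt d F) (sympBilin_nondegenerate d F) (by simp; omega)
  refine hg fun x => ?_
  have := (h ▸ Subgroup.mem_top (ofIsom g) : ofIsom g ∈ formGroup Q) x
  rwa [ofIsom_mulVec] at this

theorem psp_even_covered (hd : 2 ≤ d) : Covered (Cfsg.PSp d F) := by
  classical
  obtain ⟨ε, -, hε⟩ := exists_eps (F := F)
  have hd1 : 1 ≤ d := by omega
  let Qp := HypQuad.plusForm d F
  let Qn := Qm (d := d) hd1 ε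
  have hbot : Subgroup.center (symplecticGroup (Fin d) F) = ⊥ := by
    apply Subgroup.eq_bot_of_card_eq
    rw [card_center_symplecticGroup hd1]
    obtain ⟨k, -, hk⟩ := FiniteField.card F 2
    have hodd : Odd (Nat.card F - 1) := by
      rw [Nat.card_eq_fintype_card, hk]
      refine Nat.Even.sub_odd Nat.one_le_two_pow ?_ odd_one
      exact (even_two).pow_of_ne_zero k.ne_zero
    exact (Nat.coprime_two_left.2 hodd)
  refine covered_quotient _ (formGroup Qp) (formGroup Qn) (by rw [hbot]; exact bot_le) (by rw [hbot]; exact bot_le)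
    (formGroup_ne_top hd Qp plus_polar) (formGroup_ne_top hd Qn (Qm_polar hd1 ε)) fun g => ?_
  obtain ⟨Q, hQ, hg⟩ := exists_preserved g
  have key : ∀ Q' : QuadraticForm F (Fin d ⊕ Fin d → F), (∀ u v, polar (⇑Q') u v = Cfsg.sympForm d F u v) →
      (Plus Q' ↔ Plus Q) → ∃ x : symplecticGroup (Fin d) F, x * g * x⁻¹ ∈ formGroup Q' := by
    intro Q' hQ' h
    obtain ⟨e, he⟩ := equiv_same hd1 Q' Q (nd_of_polar Q' hQ') (nd_of_polar Q hQ) h
    let e' : BilinIsom (sympBilin d F) := ⟨e, fun u v => by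
      rw [sympBilin_eq_sympForm, sympBilin_eq_sympForm, ← hQ, ← hQ', polar, polar, ← map_add, ← he, ← he, ← he]⟩
    refine ⟨(ofIsom e')⁻¹, fun v => ?_⟩
    have hX : ∀ w, ((ofIsom e' : symplecticGroup (Fin d) F) : Matrix (Fin d ⊕ Fin d) (Fin d ⊕ Fin d) F) *ᵥ w = e w :=
      fun w => ofIsom_mulVec e' w
    rw [inv_inv, he, he, ← hX, ← hX, Submonoid.coe_mul, Submonoid.coe_mul, Matrix.mulVec_mulVec, ← mul_assoc,
      ← mul_assoc, ← Submonoid.coe_mul, mul_inv_cancel, Submonoid.coe_one, one_mul, ← Matrix.mulVec_mulVec]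
    exact hg _
  by_cases h : Plus Q
  · obtain ⟨x, hx⟩ := key Qp plus_polar (iff_of_true plus_plus h)
    exact ⟨x, Or.inl hx⟩
  · obtain ⟨x, hx⟩ := key Qn (Qm_polar hd1 ε) (iff_of_false (Qm_not_plus hd1 hε) h)
    exact ⟨x, Or.inr hx⟩

end Cfsg.Lib.TwoClassCover
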