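import Mathlib
import Cfsg.Prelude.Def_Classical
import Cfsg.Agent.Known.TwoClassCover.Linear
import Cfsg.Agent.Classical.Symp.Matrix
import Cfsg.Agent.Classical.Symp.Standard
import Cfsg.Agent.Known.ClassNumberSp.Classes

/-! In characteristic three the six dimensional symplectic group is covered by the conjugates of the stabiliser of a
nondegenerate plane and of the semilinear symplectic group of a plane over the cubic extension. -/

set_option autoImplicit false
set_option linter.unusedSectionVars false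
set_option linter.style.haveILetI false

open Polynomial Matrix

namespace Cfsg.Lib.TwoClassCover

open Cfsg.Lib.Classical Cfsg.Lib.ClassNumberSp

universe u v

variable {F : Type u} [Field F]

section Plane

/-- The stabiliser of a subspace. -/
def planeStab (P : Submodule F (Fin 3 ⊕ Fin 3 → F)) : Subgroup (symplecticGroup (Fin 3) F) where
  carrier := {g | ∀ x ∈ P, (g : Matrix (Fin 3 ⊕ Fin 3) (Fin 3 ⊕ Fin 3) F) *ᵥ x ∈ P}
  one_mem' x hx := by simpa using hx
  mul_mem' hg hh x hx := by rw [Submonoid.coe_mul, ← Matrix.mulVec_mulVec]; exact hg _ (hh x hx)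
  inv_mem' {g} hg x hx := by
    let T : P →ₗ[F] P := (Matrix.toLin' (g : Matrix (Fin 3 ⊕ Fin 3) (Fin 3 ⊕ Fin 3) F)).restrict
      fun y hy => by rw [Matrix.toLin'_apply]; exact hg y hy
    have hT : Function.Injective T := fun y z h => by
      have h' : (g : Matrix (Fin 3 ⊕ Fin 3) (Fin 3 ⊕ Fin 3) F) *ᵥ (y : Fin 3 ⊕ Fin 3 → F) =
          (g : Matrix (Fin 3 ⊕ Fin 3) (Fin 3 ⊕ Fin 3) F) *ᵥ (z : Fin 3 ⊕ Fin 3 → F) := congrArg Subtype.val h
      refine Subtype.ext ((toIsom g : BilinIsom (sympBilin 3 F)).1.injective ?_)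
      rw [toIsom_apply, toIsom_apply, h']
    obtain ⟨y, hy⟩ := (LinearMap.injective_iff_surjective.1 hT) ⟨x, hx⟩
    have hy' : (g : Matrix (Fin 3 ⊕ Fin 3) (Fin 3 ⊕ Fin 3) F) *ᵥ (y : Fin 3 ⊕ Fin 3 → F) = x := congrArg Subtype.val hy
    rw [← hy', Matrix.mulVec_mulVec, ← Submonoid.coe_mul, inv_mul_cancel, Submonoid.coe_one, Matrix.one_mulVec]
    exact y.2

variable (F) in
/-- The first hyperbolic pair. -/
def pairVec (b : Bool) : Fin 3 ⊕ Fin 3 → F := Pi.single (if b then Sum.inl 0 else Sum.inr 0) 1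

variable (F) in
/-- The plane of the first hyperbolic pair. -/
def plane : Submodule F (Fin 3 ⊕ Fin 3 → F) := Submodule.span F {pairVec F false, pairVec F true}

theorem pairVec_form : sympBilin 3 F (pairVec F false) (pairVec F true) = 1 := by
  rw [sympBilin_eq_sum, Fin.sum_univ_three]
  simp [pairVec]

theorem exists_conj_plane [Fintype F] (A : symplecticGroup (Fin 3) F) (P : Submodule F (Fin 3 ⊕ Fin 3 → F))
    (hdim : Module.finrank F P = 2)
    (hP : ∀ x ∈ P, (A : Matrix (Fin 3 ⊕ Fin 3) (Fin 3 ⊕ Fin 3) F) *ᵥ x ∈ P)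
    (hnd : ∀ x ∈ P, (∀ y ∈ P, sympBilin 3 F x y = 0) → x = 0) :
    ∃ x : symplecticGroup (Fin 3) F, x * A * x⁻¹ ∈ planeStab (plane F) := by
  obtain ⟨p1, hp1, hp0⟩ := Submodule.exists_mem_ne_zero_of_ne_bot (p := P) (fun h => by
    rw [h, finrank_bot] at hdim; omega)
  obtain ⟨p, hp, hne⟩ : ∃ p ∈ P, sympBilin 3 F p1 p ≠ 0 := by
    by_contra h
    push Not at h
    exact hp0 (hnd p1 hp1 h)
  set p2 := (sympBilin 3 F p1 p)⁻¹ • p with hp2
  have h12 : sympBilin 3 F p1 p2 = 1 := by rw [hp2, map_smul, smul_eq_mul, inv_mul_cancel₀ hne]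
  have hspan : P = Submodule.span F {p1, p2} := by
    refine (Submodule.eq_of_le_of_finrank_le ?_ ?_).symm
    · rw [Submodule.span_le]
      rintro z (rfl | rfl)
      exacts [hp1, P.smul_mem _ hp]
    · have hli : LinearIndependent F ![p1, p2] := by
        rw [LinearIndependent.pair_iff]
        intro s t h
        have hs := congrArg (fun z => sympBilin 3 F z p2) h
        have ht := congrArg (fun z => sympBilin 3 F p1 z) h
        simp [h12, sympBilin_isAlt 3 F p1, sympBilin_isAlt 3 F p2] at hs ht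
        exact ⟨hs, ht⟩
      have := finrank_span_eq_card hli
      rw [Matrix.range_cons, Matrix.range_cons, Matrix.range_empty, Set.union_empty, Set.singleton_union] at this
      rw [hdim, this]
      rfl
  obtain ⟨g, hg1, hg2⟩ := sympIsom_pair_transitive (sympBilin_isAlt 3 F) (sympBilin_nondegenerate 3 F) h12
    (pairVec_form (F := F))
  refine ⟨ofIsom g, fun x hx => ?_⟩
  have hinv : ∀ z, (((ofIsom g)⁻¹ : symplecticGroup (Fin 3) F) : Matrix (Fin 3 ⊕ Fin 3) (Fin 3 ⊕ Fin 3) F) *ᵥ
      (g : (Fin 3 ⊕ Fin 3 → F) ≃ₗ[F] _) z = z := fun z => by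
    rw [← ofIsom_mulVec, Matrix.mulVec_mulVec, ← Submonoid.coe_mul, inv_mul_cancel, Submonoid.coe_one,
      Matrix.one_mulVec]
  have himg : plane F = P.map (g : (Fin 3 ⊕ Fin 3 → F) ≃ₗ[F] _).toLinearMap := by
    rw [hspan, Submodule.map_span, Set.image_pair]
    show plane F = Submodule.span F {(g : (Fin 3 ⊕ Fin 3 → F) ≃ₗ[F] _) p1, (g : (Fin 3 ⊕ Fin 3 → F) ≃ₗ[F] _) p2}
    rw [hg1, hg2]
    rfl
  rw [himg] at hx ⊢
  obtain ⟨z, hz, rfl⟩ := hx
  refine ⟨_, hP z hz, ?_⟩
  rw [Submonoid.coe_mul, Submonoid.coe_mul, ← Matrix.mulVec_mulVec, ← Matrix.mulVec_mulVec]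
  show _ = (ofIsom g : Matrix (Fin 3 ⊕ Fin 3) (Fin 3 ⊕ Fin 3) F) *ᵥ _
  erw [hinv, ofIsom_mulVec]
  rfl

theorem plane_zero {x : Fin 3 ⊕ Fin 3 → F} (hx : x ∈ plane F) : x (Sum.inr 1) = 0 := by
  obtain ⟨s, t, rfl⟩ := Submodule.mem_span_pair.1 hx
  simp [pairVec]

theorem planeStab_ne_top : planeStab (plane F) ≠ ⊤ := by
  intro h
  set z : Fin 3 ⊕ Fin 3 → F := pairVec F false + Pi.single (Sum.inr 1) 1 with hz
  have hw : pairVec F true ∈ plane F := Submodule.subset_span (by simp)
  have hT : ofIsom (sympT (sympBilin_isAlt 3 F) z 1) ∈ planeStab (plane F) := h ▸ Subgroup.mem_top _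
  have h1 := hT _ hw
  rw [ofIsom_mulVec, sympT_apply] at h1
  have hB : sympBilin 3 F (pairVec F true) z = -1 := by
    rw [sympBilin_eq_sum, Fin.sum_univ_three]
    simp [z, pairVec]
  rw [hB] at h1
  have h2 := plane_zero h1
  simp [z, pairVec] at h2

end Plane

theorem exists_scalar_of_center {A : symplecticGroup (Fin 3) F}
    (hA : A ∈ Subgroup.center (symplecticGroup (Fin 3) F)) :
    ∃ c : F, ∀ x, (A : Matrix (Fin 3 ⊕ Fin 3) (Fin 3 ⊕ Fin 3) F) *ᵥ x = c • x := by
  have hc : sympEquiv 3 F A ∈ Subgroup.center (BilinIsom (sympBilin 3 F)) := by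
    rw [Subgroup.mem_center_iff] at hA ⊢
    intro h
    obtain ⟨k, rfl⟩ := (sympEquiv 3 F).surjective h
    rw [← map_mul, ← map_mul, hA]
  haveI := nontrivial_sympSpace (F := F) (m := 3) (by norm_num)
  obtain ⟨c, -, hc⟩ := (mem_center_bilinIsom_iff (sympBilin_isAlt 3 F) (sympBilin_nondegenerate 3 F)).mp hc
  exact ⟨c, fun x => by rw [← sympEquiv_apply]; exact hc x⟩

section Semilinear

variable {E : Type v} [Field E] [Algebra F E]

variable (F E) in
/-- The trace of the standard alternating form of a plane over an extension field. -/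
noncomputable def traceAlt : LinearMap.BilinForm F (E × E) :=
  LinearMap.mk₂ F (fun x y => Algebra.trace F E (x.1 * y.2 - x.2 * y.1))
    (fun x x' y => by rw [← map_add]; congr 1; simp only [Prod.fst_add, Prod.snd_add]; ring)
    (fun c x y => by
      rw [← map_smul]; congr 1
      rw [Prod.smul_fst, Prod.smul_snd, Algebra.smul_def, Algebra.smul_def, Algebra.smul_def]; ring)
    (fun x y y' => by rw [← map_add]; congr 1; simp only [Prod.fst_add, Prod.snd_add]; ring)
    (fun c x y => by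
      rw [← map_smul]; congr 1
      rw [Prod.smul_fst, Prod.smul_snd, Algebra.smul_def, Algebra.smul_def, Algebra.smul_def]; ring)

theorem traceAlt_apply (x y : E × E) : traceAlt F E x y = Algebra.trace F E (x.1 * y.2 - x.2 * y.1) := rfl

theorem traceAlt_isAlt : (traceAlt F E).IsAlt := fun x => by
  rw [traceAlt_apply, mul_comm x.1, sub_self, map_zero]

theorem traceAlt_nondegenerate [FiniteDimensional F E] [Algebra.IsSeparable F E] :
    (traceAlt F E).Nondegenerate := by
  refine (LinearMap.IsRefl.nondegenerate_iff_separatingLeft (B := traceAlt F E)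
    (LinearMap.BilinForm.IsAlt.isRefl (B₁ := traceAlt F E) traceAlt_isAlt)).2 ?_
  intro x hx
  refine Prod.ext ((traceForm_nondegenerate F E).1 _ fun z => ?_) ((traceForm_nondegenerate F E).1 _ fun z => ?_)
  · simpa [traceAlt_apply, Algebra.traceForm_apply] using hx (0, z)
  · simpa [traceAlt_apply, Algebra.traceForm_apply] using hx (z, 0)

variable (e : (E × E) ≃ₗ[F] (Fin 3 ⊕ Fin 3 → F))
  (he : ∀ x y, sympBilin 3 F (e x) (e y) = traceAlt F E x y)

/-- The semilinear group of the plane over the extension field. -/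
def semiGroup : Subgroup (symplecticGroup (Fin 3) F) where
  carrier := {g | ∃ τ : E ≃ₐ[F] E, ∀ (c : E) w, e.symm ((g : Matrix (Fin 3 ⊕ Fin 3) (Fin 3 ⊕ Fin 3) F) *ᵥ e (c • w)) =
    τ c • e.symm ((g : Matrix (Fin 3 ⊕ Fin 3) (Fin 3 ⊕ Fin 3) F) *ᵥ e w)}
  one_mem' := ⟨AlgEquiv.refl, fun c w => by simp⟩
  mul_mem' := by
    rintro g g' ⟨τ, hτ⟩ ⟨τ', hτ'⟩
    refine ⟨τ'.trans τ, fun c w => ?_⟩
    have h := congrArg e (hτ' c w)
    rw [e.apply_symm_apply] at h
    rw [Submonoid.coe_mul, ← Matrix.mulVec_mulVec, ← Matrix.mulVec_mulVec, h, hτ, e.apply_symm_apply]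
    rfl
  inv_mem' := by
    rintro g ⟨τ, hτ⟩
    have hcan : ∀ y, (g : Matrix (Fin 3 ⊕ Fin 3) (Fin 3 ⊕ Fin 3) F) *ᵥ
        ((g⁻¹ : symplecticGroup (Fin 3) F) : Matrix (Fin 3 ⊕ Fin 3) (Fin 3 ⊕ Fin 3) F) *ᵥ y = y := fun y => by
      rw [Matrix.mulVec_mulVec, ← Submonoid.coe_mul, mul_inv_cancel, Submonoid.coe_one, Matrix.one_mulVec]
    have hinj : Function.Injective fun y => e.symm ((g : Matrix (Fin 3 ⊕ Fin 3) (Fin 3 ⊕ Fin 3) F) *ᵥ e y) := by
      intro y z h
      have h' := e.symm.injective h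
      rw [← toIsom_apply, ← toIsom_apply] at h'
      exact e.injective ((toIsom g : BilinIsom (sympBilin 3 F)).1.injective h')
    refine ⟨τ.symm, fun c w => hinj ?_⟩
    simp only [e.apply_symm_apply, hcan, e.symm_apply_apply]
    rw [hτ, e.apply_symm_apply, hcan, e.symm_apply_apply, τ.apply_symm_apply]

/-- An isometry of the plane over the extension field as a symplectic matrix. -/
noncomputable def semiElem (f : Module.End F (E × E)) (hf : ∀ x y, traceAlt F E (f x) (f y) = traceAlt F E x y) :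
    symplecticGroup (Fin 3) F :=
  ⟨LinearMap.toMatrix' (e.toLinearMap ∘ₗ f ∘ₗ e.symm.toLinearMap), (mem_symplectic_iff_form _).mpr fun x y => by
    rw [LinearMap.toMatrix'_mulVec, LinearMap.toMatrix'_mulVec]
    simp only [LinearMap.comp_apply, LinearEquiv.coe_coe]
    rw [he, hf, ← he, e.apply_symm_apply, e.apply_symm_apply]⟩

variable {f : Module.End F (E × E)} (hf : ∀ x y, traceAlt F E (f x) (f y) = traceAlt F E x y)

theorem semiElem_apply (x : E × E) :
    Matrix.toLin' (semiElem e he f hf : Matrix (Fin 3 ⊕ Fin 3) (Fin 3 ⊕ Fin 3) F) (e x) = e (f x) := by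
  show Matrix.toLin' (LinearMap.toMatrix' _) (e x) = _
  rw [Matrix.toLin'_toMatrix']
  simp

theorem semiElem_mem (τ : E ≃ₐ[F] E) (hτ : ∀ (c : E) w, f (c • w) = τ c • f w) :
    semiElem e he f hf ∈ semiGroup e := ⟨τ, fun c w => by
  simp only [← Matrix.toLin'_apply, semiElem_apply, e.symm_apply_apply, hτ]⟩

theorem semiElem_aeval (p : F[X]) (x : E × E) :
    aeval (Matrix.toLin' (semiElem e he f hf : Matrix (Fin 3 ⊕ Fin 3) (Fin 3 ⊕ Fin 3) F)) p (e x) =
      e (aeval f p x) := by
  induction p using Polynomial.induction_on' with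
  | add s t hs ht => simp only [map_add, LinearMap.add_apply, hs, ht]
  | monomial k c =>
    simp only [aeval_monomial, Module.End.mul_apply, Module.algebraMap_end_apply, map_smul]
    congr 1
    induction k generalizing x with
    | zero => simp
    | succ k ih => rw [pow_succ, Module.End.mul_apply, semiElem_apply, ih, pow_succ, Module.End.mul_apply]

theorem semiElem_gen {v : E × E} (hv : gen f v = ⊤) :
    gen (Matrix.toLin' (semiElem e he f hf : Matrix (Fin 3 ⊕ Fin 3) (Fin 3 ⊕ Fin 3) F)) (e v) = ⊤ := by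
  refine eq_top_iff.2 fun x _ => ?_
  obtain ⟨p, hp⟩ := mem_gen.1 (hv ▸ Submodule.mem_top : e.symm x ∈ gen f v)
  exact mem_gen.2 ⟨p, by rw [semiElem_aeval, hp, e.apply_symm_apply]⟩

/-- A cyclic vector gives a nondegenerate cyclic block. -/
theorem cyc_of_gen_top {V : Type*} [AddCommGroup V] [Module F V] [FiniteDimensional F V]
    {B : LinearMap.BilinForm F V} (hA : B.IsAlt) (hB : B.Nondegenerate) {N : ℕ} {a : Module.End F V}
    (ha : Isom B N a) {g : F[X]} (hg : g.Monic) (hr : g.reverse = g) {v : V} (hk : aeval a g v = 0)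
    (hgen : gen a v = ⊤) (hdeg : g.natDegree = Module.finrank F V) : Cyc B a g v := by
  refine ⟨hg, hr, hk, fun p hp => ?_⟩
  have h0 : aeval a p v = 0 := hB.1 _ fun y => by
    obtain ⟨k, rfl⟩ := mem_gen.1 (hgen ▸ Submodule.mem_top : y ∈ gen a v)
    rw [alt_neg hA, ha.adjoint, alt_neg hA, neg_neg, ← aeval_mul_apply]
    exact hp _
  haveI : Module.Finite F (AdjoinRoot g) := hg.finite_adjoinRoot
  have hs : Function.Surjective (psi a hg v) :=
    LinearMap.range_eq_top.1 (by rw [range_psi hg hk, hgen])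
  have hi := (LinearMap.injective_iff_surjective_of_finrank_eq_finrank (by
    rw [PowerBasis.finrank (AdjoinRoot.powerBasis' hg), ← hdeg]; rfl)).2 hs
  refine AdjoinRoot.mk_eq_zero.1 ((injective_iff_map_eq_zero _).1 hi _ ?_)
  rw [psi_mk hg hk, h0]

/-- The map `(x, y) ↦ (-y, x + t y)`. -/
def rotMap (t : E) : Module.End F (E × E) where
  toFun x := (-x.2, x.1 + t * x.2)
  map_add' x y := by ext <;> simp <;> ring
  map_smul' c x := by ext <;> simp [Algebra.smul_def] <;> ring

theorem rotMap_apply (t : E) (x : E × E) : rotMap (F := F) t x = (-x.2, x.1 + t * x.2) := rfl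

theorem rotMap_isom (t : E) (x y : E × E) : traceAlt F E (rotMap (F := F) t x) (rotMap (F := F) t y) = traceAlt F E x y := by
  simp only [traceAlt_apply, rotMap_apply]
  congr 1; ring

theorem rotMap_smul (t c : E) (x : E × E) : rotMap (F := F) t (c • x) = c • rotMap (F := F) t x := by
  ext <;> simp [rotMap_apply]; ring

theorem rotMap_rotMap (t : E) (x : E × E) :
    rotMap (F := F) t (rotMap (F := F) t x) + x = t • rotMap (F := F) t x := by
  ext <;> simp [rotMap_apply] <;> ring

/-- The map `(x, y) ↦ (σ x, b σ x + σ y)`. -/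
def shearMap (σ : E ≃ₐ[F] E) (b : E) : Module.End F (E × E) where
  toFun x := (σ x.1, b * σ x.1 + σ x.2)
  map_add' x y := by ext <;> simp; ring
  map_smul' c x := by ext <;> simp [mul_smul_comm]

theorem shearMap_apply (σ : E ≃ₐ[F] E) (b : E) (x : E × E) :
    shearMap σ b x = (σ x.1, b * σ x.1 + σ x.2) := rfl

theorem shearMap_smul (σ : E ≃ₐ[F] E) (b c : E) (x : E × E) : shearMap σ b (c • x) = σ c • shearMap σ b x := by
  ext <;> simp [shearMap_apply]; ring

theorem shearMap_isom (σ : E ≃ₐ[F] E) (b : E) (x y : E × E) :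
    traceAlt F E (shearMap σ b x) (shearMap σ b y) = traceAlt F E x y := by
  simp only [traceAlt_apply, shearMap_apply]
  rw [← Algebra.trace_eq_of_algEquiv σ (x.1 * y.2 - x.2 * y.1)]
  congr 1
  simp only [map_sub, map_mul]
  ring

end Semilinear

end Cfsg.Lib.TwoClassCover
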