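import Mathlib
import Cfsg.Agent.Known.TwoClassCover.SympSix

/-! Every element of the six dimensional symplectic group in characteristic three lies in a conjugate of one of the
two subgroups. -/

set_option autoImplicit false
set_option linter.unusedSectionVars false
set_option linter.style.haveILetI false

open Polynomial Matrix

namespace Cfsg.Lib.TwoClassCover

open Cfsg.Lib.Classical Cfsg.Lib.ClassNumberSp

universe u v

variable {F : Type u} [Field F] [Fintype F] [CharP F 3] {E : Type v} [Field E] [Fintype E] [Algebra F E] [CharP E 3]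
  (hE : Module.finrank F E = 3)

theorem two_ne_zero_of_three : (2 : F) ≠ 0 := by
  intro h
  have h3 : ((3 : ℕ) : F) = 0 := CharP.cast_eq_zero F 3
  push_cast at h3
  exact one_ne_zero (α := F) (by linear_combination h3 - h)

theorem three_eq_zero' (K : Type*) [Field K] [CharP K 3] : (3 : K) = 0 := by
  have h3 : ((3 : ℕ) : K) = 0 := CharP.cast_eq_zero K 3
  exact_mod_cast h3

variable (F E) in
/-- The generator of the Galois group of the cubic extension. -/
noncomputable def frobE : E ≃ₐ[F] E := FiniteField.frobeniusAlgEquivOfAlgebraic F E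

theorem frobE_apply (x : E) : frobE F E x = x ^ Fintype.card F := rfl

include hE

theorem frobE_cube (x : E) : frobE F E (frobE F E (frobE F E x)) = x := by
  rw [frobE_apply, frobE_apply, frobE_apply, ← pow_mul, ← pow_mul,
    show Fintype.card F * (Fintype.card F * Fintype.card F) = Fintype.card E by
      rw [Module.card_eq_pow_finrank (K := F) (V := E), hE]; ring,
    FiniteField.pow_card]

theorem frobE_trace (x : E) :
    algebraMap F E (Algebra.trace F E x) = x + frobE F E x + frobE F E (frobE F E x) := by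
  rw [FiniteField.algebraMap_trace_eq_sum_pow, hE, Nat.card_eq_fintype_card, Finset.sum_range_succ,
    Finset.sum_range_succ, Finset.sum_range_one, frobE_apply, frobE_apply, ← pow_mul]
  ring

variable (e : (E × E) ≃ₗ[F] (Fin 3 ⊕ Fin 3 → F))
  (he : ∀ x y, sympBilin 3 F (e x) (e y) = traceAlt F E x y)

theorem finrank_plane_ext : Module.finrank F (E × E) = 6 := by rw [Module.finrank_prod, hE]

include he

theorem dec_of_block {A : symplecticGroup (Fin 3) F} {k : Key F} {U : Submodule F (Fin 3 ⊕ Fin 3 → F)}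
    (h : IsBlock (sympBilin 3 F) (Matrix.toLin' (A : Matrix (Fin 3 ⊕ Fin 3) (Fin 3 ⊕ Fin 3) F)) k U)
    (hU : U = ⊤) : Dec (sympBilin 3 F) (Matrix.toLin' (A : Matrix (Fin 3 ⊕ Fin 3) (Fin 3 ⊕ Fin 3) F)) [k] ⊤ := by
  have hd := Dec.cons h Dec.nil fun x _ y hy => by rw [(Submodule.mem_bot F).1 hy, map_zero]
  rwa [sup_bot_eq, hU] at hd

theorem shear_powers (b : E) :
    (∀ x : E × E, shearMap (frobE F E) b (shearMap (frobE F E) b (shearMap (frobE F E) b x)) =
      x + ((0 : E), Algebra.trace F E b • x.1)) ∧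
    ((shearMap (frobE F E) b - 1) ^ 6 : Module.End F (E × E)) = 0 ∧
    ∀ z : E, Algebra.trace F E z = 1 → ((shearMap (frobE F E) b - 1) ^ 5 : Module.End F (E × E)) (z, 0) =
      ((0 : E), Algebra.trace F E b • (1 : E)) := by
  have h3 := three_eq_zero' E
  set τ := frobE F E
  have hcube : ∀ x : E × E, shearMap τ b (shearMap τ b (shearMap τ b x)) =
      x + ((0 : E), Algebra.trace F E b • x.1) := fun x => by
    simp only [shearMap_apply, map_add, map_mul, frobE_cube hE, τ, Algebra.smul_def, frobE_trace hE]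
    ext <;> simp <;> ring
  set N : Module.End F (E × E) := shearMap τ b - 1
  have hN : ∀ x, N x = shearMap τ b x - x := fun x => rfl
  have hN3 : ∀ x : E × E, N (N (N x)) = ((0 : E), Algebra.trace F E b • x.1) := fun x => by
    simp only [hN, map_sub, hcube]
    ext
    · simp only [Prod.fst_sub, Prod.fst_add]; linear_combination ((shearMap τ b x).1 - (shearMap τ b (shearMap τ b x)).1) * h3
    · simp only [Prod.snd_sub, Prod.snd_add]; linear_combination ((shearMap τ b x).2 - (shearMap τ b (shearMap τ b x)).2) * h3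
  refine ⟨hcube, LinearMap.ext fun x => ?_, fun z hz => ?_⟩
  · show N (N (N (N (N (N x))))) = 0
    rw [hN3, hN3]
    simp
  · show N (N (N (N (N (z, 0))))) = _
    rw [hN3]
    have hz' := frobE_trace hE z
    rw [hz, map_one] at hz'
    simp only [hN, shearMap_apply, map_sub, map_zero, mul_zero, add_zero, sub_zero, zero_add, Prod.mk_sub_mk,
      map_smul, ← smul_sub]
    refine Prod.ext rfl ?_
    show Algebra.trace F E b • _ = Algebra.trace F E b • _
    congr 1
    linear_combination (-(frobE F E z)) * h3 - hz'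

theorem model_one (ε : Bool) (s : Bool) : ∃ A ∈ semiGroup e,
    Dec (sympBilin 3 F) (Matrix.toLin' (A : Matrix (Fin 3 ⊕ Fin 3) (Fin 3 ⊕ Fin 3) F)) [Key.one ε 6 s] ⊤ := by
  classical
  have h2 : (2 : F) ≠ 0 := two_ne_zero_of_three
  obtain ⟨β, hβ0, hβ⟩ : ∃ β : F, β ≠ 0 ∧ (IsSquare β ↔ s = true) := by
    cases s
    · obtain ⟨η, hη⟩ := FiniteField.exists_nonsquare (F := F)
        (fun h => h2 (by have := (ringChar.spec F 2).2 (h ▸ dvd_rfl); simpa using this))
      exact ⟨η, fun h => hη (h ▸ IsSquare.zero), by simpa using hη⟩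
    · exact ⟨1, one_ne_zero, by simp⟩
  set ε' := sgn F ε with hε'
  have hsq : ε' * ε' = 1 := sgn_sq ε
  obtain ⟨b, hb⟩ := Algebra.trace_surjective F E (-ε' * β)
  obtain ⟨z, hz⟩ := Algebra.trace_surjective F E (1 : F)
  let f : Module.End F (E × E) := ε' • shearMap (frobE F E) b
  have hf : ∀ x y, traceAlt F E (f x) (f y) = traceAlt F E x y := fun x y => by
    simp only [f, LinearMap.smul_apply, map_smul, shearMap_isom, smul_eq_mul, ← mul_assoc, hsq, one_mul]
  refine ⟨_, semiElem_mem e he hf (frobE F E) fun c w => ?_, dec_of_block hE e he (k := Key.one ε 6 s)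
    (U := gen _ (e (z, 0))) ⟨by norm_num, by decide, e (z, 0), ?_, ?_, rfl⟩ ?_⟩
  · simp only [f, LinearMap.smul_apply, shearMap_smul]
    rw [smul_comm]
  all_goals
    have hlin : ∀ k, aeval f ((X - C ε') ^ k) = ε' ^ k • ((shearMap (frobE F E) b - 1) ^ k : Module.End F (E × E)) :=
      fun k => by
        rw [map_pow, show aeval f (X - C ε') = ε' • (shearMap (frobE F E) b - 1 : Module.End F (E × E)) from
          LinearMap.ext fun x => by simp [f, smul_sub], _root_.smul_pow]
    obtain ⟨-, hs6, hs5⟩ := shear_powers hE e he b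
    have htop : sympBilin 3 F (aeval (Matrix.toLin' (semiElem e he f hf : Matrix (Fin 3 ⊕ Fin 3) (Fin 3 ⊕ Fin 3) F))
        ((X - C ε') ^ (6 - 1)) (e (z, 0))) (e (z, 0)) = β := by
      rw [semiElem_aeval, he, hlin, LinearMap.smul_apply, hs5 z hz, hb, map_smul, LinearMap.smul_apply,
        traceAlt_apply, smul_eq_mul]
      simp only [zero_mul, zero_sub, map_neg, smul_mul_assoc, one_mul, map_smul, hz, smul_eq_mul, mul_one,
        show 6 - 1 = 5 from rfl]
      linear_combination (β * ε' ^ 4 + β * ε' ^ 2 + β) * hsq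
    have hcyc : Cyc (sympBilin 3 F) (Matrix.toLin' (semiElem e he f hf : Matrix (Fin 3 ⊕ Fin 3) (Fin 3 ⊕ Fin 3) F))
        ((X - C ε') ^ 6) (e (z, 0)) :=
      cyc_of_top (by norm_num) (reverse_linear_even ε (by decide))
        (by rw [semiElem_aeval, hlin, hs6, smul_zero, LinearMap.zero_apply, map_zero])
        (by rw [htop]; exact hβ0)
  · exact hcyc
  · rw [htop]; exact hβ
  · refine Submodule.eq_top_of_finrank_eq ?_
    rw [hcyc.finrank_gen, natDegree_pow, natDegree_X_sub_C, finrank_sympSpace]

theorem model_pair (ε : Bool) : ∃ A ∈ semiGroup e,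
    Dec (sympBilin 3 F) (Matrix.toLin' (A : Matrix (Fin 3 ⊕ Fin 3) (Fin 3 ⊕ Fin 3) F)) [Key.pair ε 3] ⊤ := by
  classical
  have h3 := three_eq_zero' E
  set ε' := sgn F ε with hε'
  have hsq : ε' * ε' = 1 := sgn_sq ε
  obtain ⟨z, hz⟩ := Algebra.trace_surjective F E (1 : F)
  let f : Module.End F (E × E) := ε' • shearMap (frobE F E) 0
  have hf : ∀ x y, traceAlt F E (f x) (f y) = traceAlt F E x y := fun x y => by
    simp only [f, LinearMap.smul_apply, map_smul, shearMap_isom, smul_eq_mul, ← mul_assoc, hsq, one_mul]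
  set N : Module.End F (E × E) := shearMap (frobE F E) 0 - 1
  have hN : ∀ x, N x = shearMap (frobE F E) 0 x - x := fun x => rfl
  have hlin : ∀ k, aeval f ((X - C ε') ^ k) = ε' ^ k • (N ^ k : Module.End F (E × E)) := fun k => by
    rw [map_pow, show aeval f (X - C ε') = ε' • N from LinearMap.ext fun x => by simp [f, N, smul_sub],
      _root_.smul_pow]
  have hN3 : N ^ 3 = 0 := LinearMap.ext fun x => by
    show N (N (N x)) = 0
    simp only [hN, shearMap_apply, map_sub, zero_mul, zero_add, frobE_cube hE, Prod.mk_sub_mk]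
    ext
    · simp; linear_combination (frobE F E x.1 - frobE F E (frobE F E x.1)) * h3
    · simp; linear_combination (frobE F E x.2 - frobE F E (frobE F E x.2)) * h3
  have hp : Pair (sympBilin 3 F) (Matrix.toLin' (semiElem e he f hf : Matrix (Fin 3 ⊕ Fin 3) (Fin 3 ⊕ Fin 3) F)) ε' 3
      (e (z, 0)) (e (0, z)) := by
    refine ⟨hsq, by decide, ?_, ?_, ?_⟩
    · rw [semiElem_aeval, hlin, hN3, smul_zero, LinearMap.zero_apply, map_zero]
    · rw [semiElem_aeval, hlin, hN3, smul_zero, LinearMap.zero_apply, map_zero]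
    · rw [semiElem_aeval, he, hlin, LinearMap.smul_apply, map_smul, LinearMap.smul_apply, smul_eq_mul,
        show 3 - 1 = 2 from rfl, sq ε', hsq, one_mul]
      have hz' := frobE_trace hE z
      rw [hz, map_one] at hz'
      have h2 : (N ^ 2 : Module.End F (E × E)) (z, 0) = (1, 0) := by
        show N (N (z, 0)) = _
        simp only [hN, shearMap_apply, map_sub, map_zero, zero_mul, zero_add, sub_zero, Prod.mk_sub_mk]
        refine Prod.ext ?_ rfl
        linear_combination (-(frobE F E z)) * h3 - hz'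
      rw [h2, traceAlt_apply]
      simpa using hz
  refine ⟨_, semiElem_mem e he hf (frobE F E) fun c w => ?_, dec_of_block hE e he (k := Key.pair ε 3)
    (U := pairGen _ (e (z, 0)) (e (0, z))) ⟨e (z, 0), e (0, z), hp, rfl⟩ ?_⟩
  · simp only [f, LinearMap.smul_apply, shearMap_smul]
    rw [smul_comm]
  · refine Submodule.eq_top_of_finrank_eq ?_
    rw [hp.finrank_gen (isom_toLin _) (sympBilin_isAlt 3 F) two_ne_zero_of_three, finrank_sympSpace]

/-- The normal basis attached to an element of trace one. -/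
theorem span_conjugates {z : E} (hz : Algebra.trace F E z = 1) :
    Submodule.span F (Set.range ![z, frobE F E z, frobE F E (frobE F E z)]) = ⊤ := by
  refine LinearIndependent.span_eq_top_of_card_eq_finrank ?_ (by simp [hE])
  rw [Fintype.linearIndependent_iff]
  intro g hg
  simp only [Fin.sum_univ_three, Matrix.cons_val_zero, Matrix.cons_val_one, Matrix.cons_val_two, Matrix.tail_cons,
    Matrix.head_cons, Algebra.smul_def] at hg
  have hg1 := congrArg (frobE F E) hg
  simp only [map_add, map_mul, map_zero, AlgEquiv.commutes, frobE_cube hE] at hg1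
  have hg2 := congrArg (frobE F E) hg1
  simp only [map_add, map_mul, map_zero, AlgEquiv.commutes, frobE_cube hE] at hg2
  have hz' := frobE_trace hE z
  rw [hz, map_one] at hz'
  have h3 := three_eq_zero' E
  set p := frobE F E z
  set r := frobE F E p
  set a := algebraMap F E (g 0) with ha
  set b := algebraMap F E (g 1) with hb
  set c := algebraMap F E (g 2) with hc
  have hS : a + b + c = 0 := by linear_combination hg + hg1 + hg2 + (a + b + c) * hz'
  have hab : a - b = 0 := by
    linear_combination hg1 - hg + (r - z) * hS + (a - b) * hz' + (a * z - b * r) * h3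
  have ha0 : a = 0 := by linear_combination hg + a * hz' + a * r * h3 - r * hS + (p - r) * hab
  have hb0 : b = 0 := by linear_combination ha0 - hab
  have hc0 : c = 0 := by linear_combination hS - ha0 - hb0
  intro i
  fin_cases i
  exacts [(map_eq_zero _).1 ha0, (map_eq_zero _).1 hb0, (map_eq_zero _).1 hc0]

theorem gen_closed {V : Type*} [AddCommGroup V] [Module F V] {f : Module.End F V} {v x : V} (hx : x ∈ gen f v) :
    f x ∈ gen f v := by simpa using gen_invariant X hx

theorem model_cyc_one {Q : F[X]} (hQ : GoodQ Q) (hdeg : Q.natDegree = 6) : ∃ A ∈ semiGroup e,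
    Dec (sympBilin 3 F) (Matrix.toLin' (A : Matrix (Fin 3 ⊕ Fin 3) (Fin 3 ⊕ Fin 3) F)) [Key.cyc Q 1] ⊤ := by
  classical
  obtain ⟨hm, hrev, -, -, -⟩ := hQ.props two_ne_zero_of_three
  obtain ⟨P, hPm, hPi, hP0, -, hQP⟩ := id hQ
  have hc : ∀ i ≤ 6, Q.coeff (6 - i) = Q.coeff i := fun i hi => by
    conv_rhs => rw [← hrev, coeff_reverse, hdeg, revAt_le hi]
  set c1 := Q.coeff 1
  set c2 := Q.coeff 2
  set c3 := Q.coeff 3
  have hform : Q = (X ^ 2 + 1) ^ 3 + C c1 * (X ^ 2 + 1) ^ 2 * X + C (c2 - 3) * (X ^ 2 + 1) * X ^ 2 +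
      C (c3 - 2 * c1) * X ^ 3 := by
    have h6 : Q.coeff 6 = 1 := hdeg ▸ hm
    conv_lhs => rw [Q.as_sum_range_C_mul_X_pow' (show Q.natDegree < 7 by omega)]
    simp only [Finset.sum_range_succ, Finset.sum_range_zero, h6, show Q.coeff 5 = c1 from hc 1 (by norm_num),
      show Q.coeff 4 = c2 from hc 2 (by norm_num), show Q.coeff 0 = 1 from (hc 0 (by norm_num)).symm.trans h6,
      show Q.coeff 1 = c1 from rfl, show Q.coeff 2 = c2 from rfl, show Q.coeff 3 = c3 from rfl]
    simp only [map_sub, map_mul, map_ofNat, map_one]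
    ring
  set T : F[X] := X ^ 3 + C c1 * X ^ 2 + C (c2 - 3) * X + C (c3 - 2 * c1) with hT
  have hTdeg : T.natDegree = 3 := by
    rw [hT]; compute_degree!
  have hTm : T.Monic := by
    rw [hT]; monicity!
  have hTroot : ∀ r, ¬ T.IsRoot r := fun r hr => by
    have hr' : r ^ 3 + c1 * r ^ 2 + (c2 - 3) * r + (c3 - 2 * c1) = 0 := by simpa [hT] using hr
    have hdiv : X ^ 2 - C r * X + 1 ∣ Q := by
      have h0 : C r ^ 3 + C c1 * C r ^ 2 + C (c2 - 3) * C r + C (c3 - 2 * c1) = 0 := by
        simp only [← map_pow, ← map_mul, ← map_add, hr', map_zero]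
      refine ⟨(X ^ 2 + 1) ^ 2 + (X ^ 2 + 1) * C r * X + C r ^ 2 * X ^ 2 + C c1 * X * ((X ^ 2 + 1) + C r * X) +
        C (c2 - 3) * X ^ 2, ?_⟩
      rw [hform]
      linear_combination X ^ 3 * h0
    have hd2 : (X ^ 2 - C r * X + 1 : F[X]).natDegree = 2 := by compute_degree!
    obtain ⟨q, -, hqi, hqd⟩ := exists_monic_irreducible_factor (X ^ 2 - C r * X + 1 : F[X])
      (not_isUnit_of_natDegree_pos _ (by omega))
    have hq2 : q.natDegree ≤ 2 := hd2 ▸ natDegree_le_of_dvd hqd (fun h => by rw [h, natDegree_zero] at hd2; omega)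
    have hqQ : q ∣ Q := hqd.trans hdiv
    rw [hQP, symPoly] at hqQ
    rw [hQP, symPoly] at hdeg
    split_ifs at hqQ hdeg with hd
    · have := natDegree_eq_of_degree_eq (degree_eq_degree_of_associated (hqi.associated_of_dvd hPi hqQ))
      omega
    · have hdi := DualPoly.dual_irreducible (σ := RingHom.id F) (fun _ => rfl) hPm hPi hP0
      rw [hPm.natDegree_mul (DualPoly.dual_monic hP0), DualPoly.dual_natDegree hP0] at hdeg
      rcases hqi.prime.dvd_or_dvd hqQ with h | h
      · have := natDegree_eq_of_degree_eq (degree_eq_degree_of_associated (hqi.associated_of_dvd hPi h))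
        omega
      · have := natDegree_eq_of_degree_eq (degree_eq_degree_of_associated (hqi.associated_of_dvd hdi h))
        rw [DualPoly.dual_natDegree hP0] at this
        omega
  have hTi : Irreducible T := by
    rw [irreducible_iff_roots_eq_zero_of_degree_le_three (by omega) (by omega)]
    exact Multiset.eq_zero_of_forall_notMem fun r hr => hTroot r (mem_roots'.1 hr).2
  haveI : Fact (Irreducible T) := ⟨hTi⟩
  haveI := hTm.finite_adjoinRoot
  have hTfr : Module.finrank F (AdjoinRoot T) = 3 :=
    (PowerBasis.finrank (AdjoinRoot.powerBasis' hTm)).trans hTdeg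
  obtain ⟨σ⟩ := FiniteField.nonempty_algHom_of_finrank_dvd (F := F) (K := AdjoinRoot T) (L := E) (by rw [hTfr, hE])
  set t := σ (AdjoinRoot.root T) with ht
  have hσs : Function.Surjective σ := (LinearMap.injective_iff_surjective_of_finrank_eq_finrank
    (f := σ.toLinearMap) (by rw [hTfr, hE])).1 σ.toRingHom.injective
  have ht0 : aeval t T = 0 := by rw [ht, aeval_algHom_apply, AdjoinRoot.aeval_eq, AdjoinRoot.mk_self, map_zero]
  let f : Module.End F (E × E) := rotMap t
  have hf : ∀ x y, traceAlt F E (f x) (f y) = traceAlt F E x y := rotMap_isom t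
  let m : Module.End F (E × E) := Algebra.lsmul F F (E × E) t
  have hfm : f ^ 2 + 1 = m * f := LinearMap.ext fun x => rotMap_rotMap t x
  have hmf : Commute m f := LinearMap.ext fun x => (rotMap_smul t t x).symm
  have hQf : aeval f Q = 0 := by
    have hT0 : aeval m T = 0 := by rw [show m = Algebra.lsmul F F (E × E) t from rfl, aeval_algHom_apply, ht0, map_zero]
    have hTm' : aeval m T = m ^ 3 + algebraMap F _ c1 * m ^ 2 + algebraMap F _ (c2 - 3) * m +
        algebraMap F (Module.End F (E × E)) (c3 - 2 * c1) := by simp [hT]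
    have key : aeval f Q = (m ^ 3 + algebraMap F _ c1 * m ^ 2 + algebraMap F _ (c2 - 3) * m +
        algebraMap F (Module.End F (E × E)) (c3 - 2 * c1)) * f ^ 3 := by
      rw [hform]
      simp only [map_add, map_mul, map_pow, aeval_X, aeval_C, map_one, hfm]
      simp only [hmf.mul_pow, add_mul, mul_assoc, ← pow_succ, ← pow_succ']
    rw [key, ← hTm', hT0, zero_mul]
  have hgen : gen f (((1 : E), (0 : E)) : E × E) = ⊤ := by
    set G := gen f (((1 : E), (0 : E)) : E × E)
    have hpre : ∀ x ∈ G, ∃ y ∈ G, f y = x := fun x hx => by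
      refine ⟨-(aeval f (divX Q) x), G.neg_mem (gen_invariant _ hx), ?_⟩
      have h := congrArg (fun p : Module.End F (E × E) => p x) ((congrArg (aeval f) (X_mul_divX_add Q)).trans hQf)
      simp only [map_add, map_mul, aeval_X, aeval_C, LinearMap.add_apply, Module.End.mul_apply,
        LinearMap.zero_apply, Module.algebraMap_end_apply] at h
      rw [show Q.coeff 0 = 1 from (hc 0 (by norm_num)).symm.trans (hdeg ▸ hm), one_smul] at h
      rw [map_neg, eq_comm, ← add_eq_zero_iff_eq_neg, add_comm]
      exact h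
    have ht1 : ∀ x ∈ G, t • x ∈ G := fun x hx => by
      obtain ⟨y, hy, rfl⟩ := hpre x hx
      show t • rotMap t y ∈ G
      rw [← rotMap_rotMap]
      exact G.add_mem (gen_closed hE e he (gen_closed hE e he hy)) hy
    have hall : ∀ (c : E), ∀ x ∈ G, c • x ∈ G := by
      intro c
      obtain ⟨r, rfl⟩ := hσs c
      obtain ⟨p, rfl⟩ := AdjoinRoot.mk_surjective r
      rw [← AdjoinRoot.aeval_eq, ← aeval_algHom_apply, ← ht]
      induction p using Polynomial.induction_on with
      | C k => intro x hx; rw [aeval_C, algebraMap_smul]; exact G.smul_mem k hx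
      | add p q hp hq => intro x hx; rw [map_add, add_smul]; exact G.add_mem (hp x hx) (hq x hx)
      | monomial n k ih =>
        intro x hx
        rw [pow_succ, ← mul_assoc, map_mul, aeval_X, mul_smul]
        exact ih _ (ht1 x hx)
    refine eq_top_iff.2 fun x _ => ?_
    have hx : x = x.1 • ((1 : E), (0 : E)) + x.2 • f ((1 : E), (0 : E)) := by
      ext <;> simp [f, rotMap_apply]
    rw [hx]
    exact G.add_mem (hall _ _ (self_mem_gen f _)) (hall _ _ (gen_closed hE e he (self_mem_gen f _)))
  have hgen' := semiElem_gen e he hf hgen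
  have hcyc : Cyc (sympBilin 3 F) (Matrix.toLin' (semiElem e he f hf : Matrix (Fin 3 ⊕ Fin 3) (Fin 3 ⊕ Fin 3) F))
      (Q ^ 1) (e (1, 0)) :=
    cyc_of_gen_top (sympBilin_isAlt 3 F) (sympBilin_nondegenerate 3 F) (isom_toLin _) (hm.pow 1)
      (by rw [pow_one, hrev]) (by rw [semiElem_aeval, pow_one, hQf, LinearMap.zero_apply, map_zero]) hgen'
      (by rw [pow_one, hdeg, finrank_sympSpace])
  exact ⟨_, semiElem_mem e he hf AlgEquiv.refl fun c w => rotMap_smul t c w,
    dec_of_block hE e he (k := Key.cyc Q 1) ⟨hQ, le_rfl, _, hcyc, rfl⟩ hgen'⟩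

theorem model_cyc_three {Q : F[X]} (hQ : GoodQ Q) (hdeg : Q.natDegree = 2) : ∃ A ∈ semiGroup e,
    Dec (sympBilin 3 F) (Matrix.toLin' (A : Matrix (Fin 3 ⊕ Fin 3) (Fin 3 ⊕ Fin 3) F)) [Key.cyc Q 3] ⊤ := by
  classical
  obtain ⟨hm, hrev, hcop, -, -⟩ := hQ.props two_ne_zero_of_three
  have h2c : Q.coeff 2 = 1 := hdeg ▸ hm
  have h0c : Q.coeff 0 = 1 := by
    conv_lhs => rw [← hrev, coeff_zero_reverse]
    exact hm
  set b := Q.coeff 1 with hb
  have hform : Q = X ^ 2 + C b * X + 1 := by
    conv_lhs => rw [Q.as_sum_range_C_mul_X_pow' (show Q.natDegree < 3 by omega)]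
    simp only [Finset.sum_range_succ, Finset.sum_range_zero, h2c, h0c, ← hb, map_one]
    ring
  have hb1 : b ^ 2 - 1 ≠ 0 := fun h => by
    obtain ⟨u, w, huw⟩ := hcop
    have h3 := three_eq_zero' F
    have key : ∀ s : F, s ^ 2 = 1 → s * b = 1 → False := fun s hs hsb => by
      have h' := congrArg (eval s) huw
      rw [hform] at h'
      simp only [eval_add, eval_mul, eval_sub, eval_pow, eval_X, eval_C, eval_one] at h'
      exact one_ne_zero (α := F) (by
        linear_combination -h' + (eval s u + eval s w) * hs + eval s u * hsb + eval s u * h3)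
    rcases (sq_eq_one_iff.1 (sub_eq_zero.1 h)) with h | h
    · exact key 1 (one_pow 2) (by rw [one_mul, h])
    · exact key (-1) (by ring) (by rw [h]; ring)
  set t := algebraMap F E (-b)
  obtain ⟨z, hz⟩ := Algebra.trace_surjective F E (1 : F)
  let M : Module.End F (E × E) := rotMap t
  let S : Module.End F (E × E) := shearMap (frobE F E) 0
  let f : Module.End F (E × E) := M * S
  have hf : ∀ x y, traceAlt F E (f x) (f y) = traceAlt F E x y := fun x y =>
    (rotMap_isom t _ _).trans (shearMap_isom _ _ x y)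
  have hM2 : ∀ x, M (M x) + x = -b • M x := fun x => by
    rw [show M = rotMap t from rfl, rotMap_rotMap, algebraMap_smul]
  have hMQ : aeval M Q = 0 := LinearMap.ext fun x => by
    rw [hform]
    simp only [map_add, map_mul, map_pow, aeval_X, aeval_C, map_one, LinearMap.add_apply, Module.End.mul_apply,
      Module.algebraMap_end_apply, Module.End.one_apply, LinearMap.zero_apply, sq]
    rw [add_right_comm, hM2, neg_smul, neg_add_cancel]
  have hSM : Commute S M := LinearMap.ext fun x => by
    show shearMap (frobE F E) 0 (rotMap (F := F) t x) = rotMap (F := F) t (shearMap (frobE F E) 0 x)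
    ext <;> simp [rotMap_apply, shearMap_apply, t]
  have hS3 : S ^ 3 = 1 := LinearMap.ext fun x => by
    show shearMap _ 0 (shearMap _ 0 (shearMap _ 0 x)) = x
    rw [(shear_powers hE e he 0).1 x]
    simp
  have hf3 : f ^ 3 = M ^ 3 := by rw [show f = M * S from rfl, hSM.symm.mul_pow, hS3, mul_one]
  have hQ3 : Q ^ 3 = (X ^ 2 + C (b ^ 3) * X + 1 : F[X]).comp (X ^ 3) := by
    have h3 : (3 : F[X]) = 0 := by
      have := congrArg (C (R := F)) (three_eq_zero' F)
      rwa [map_ofNat, map_zero] at this
    rw [hform]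
    simp only [add_comp, mul_comp, pow_comp, X_comp, C_comp, one_comp, map_pow]
    linear_combination (C b * X * (X ^ 2 + 1) ^ 2 + C b ^ 2 * X ^ 2 * (X ^ 2 + 1) + X ^ 4 + X ^ 2) * h3
  have hQf : aeval f (Q ^ 3) = 0 := by
    rw [hQ3, aeval_comp, map_pow, aeval_X, hf3]
    have := congrArg (aeval M) hQ3
    rw [map_pow, hMQ, aeval_comp, map_pow, aeval_X, zero_pow three_ne_zero] at this
    exact this.symm
  have hgen : gen f ((z, (0 : E)) : E × E) = ⊤ := by
    set G := gen f ((z, (0 : E)) : E × E)
    have hf' : ∀ x ∈ G, f x ∈ G := fun x hx => gen_closed hE e he hx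
    have hMG : ∀ x ∈ G, M x ∈ G := fun x hx => by
      have e3 : f (f (f x)) = (b ^ 2 - 1) • M x + b • x := by
        have h := congrArg (fun p : Module.End F (E × E) => p x) hf3
        rw [show f (f (f x)) = M (M (M x)) from h]
        have h1 : ∀ y, M (M y) = -b • M y - y := fun y => eq_sub_of_add_eq (hM2 y)
        rw [h1 (M x), h1 x]
        module
      have e4 : M x = (b ^ 2 - 1)⁻¹ • (f (f (f x)) - b • x) := by
        rw [e3, add_sub_cancel_right, smul_smul, inv_mul_cancel₀ hb1, one_smul]
      rw [e4]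
      exact G.smul_mem _ (G.sub_mem (hf' _ (hf' _ (hf' _ hx))) (G.smul_mem _ hx))
    have hSG : ∀ x ∈ G, S x ∈ G := fun x hx => by
      have e1 : S x = -b • f x - M (f x) := by
        show S x = -b • M (S x) - M (M (S x))
        rw [← hM2, add_sub_cancel_left]
      rw [e1]
      exact G.sub_mem (G.smul_mem _ (hf' _ hx)) (hMG _ (hf' _ hx))
    have hall : ∀ y : E, (y, (0 : E)) ∈ G := fun y => by
      have hy : y ∈ Submodule.span F (Set.range ![z, frobE F E z, frobE F E (frobE F E z)]) := by
        rw [span_conjugates hE e he hz]; exact Submodule.mem_top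
      have hle : Submodule.span F (Set.range ![z, frobE F E z, frobE F E (frobE F E z)]) ≤
          G.comap (LinearMap.inl F E E) := by
        rw [Submodule.span_le]
        rintro w ⟨i, rfl⟩
        have hS0 : ∀ y : E, S (y, 0) = (frobE F E y, 0) := fun y => by simp [S, shearMap_apply]
        have h0 : (z, (0 : E)) ∈ G := self_mem_gen f _
        fin_cases i
        · exact h0
        · show (frobE F E z, (0 : E)) ∈ G
          rw [← hS0]; exact hSG _ h0
        · show (frobE F E (frobE F E z), (0 : E)) ∈ G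
          rw [← hS0, ← hS0]; exact hSG _ (hSG _ h0)
      exact hle hy
    refine eq_top_iff.2 fun x _ => ?_
    have hx : x = (x.1, (0 : E)) + M (x.2, 0) := by
      ext <;> simp [M, rotMap_apply]
    rw [hx]
    exact G.add_mem (hall _) (hMG _ (hall _))
  have hgen' := semiElem_gen e he hf hgen
  have hcyc : Cyc (sympBilin 3 F) (Matrix.toLin' (semiElem e he f hf : Matrix (Fin 3 ⊕ Fin 3) (Fin 3 ⊕ Fin 3) F))
      (Q ^ 3) (e (z, 0)) :=
    cyc_of_gen_top (sympBilin_isAlt 3 F) (sympBilin_nondegenerate 3 F) (isom_toLin _) (hm.pow 3)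
      (by rw [pow_succ, pow_succ, pow_one, reverse_mul_of_domain, reverse_mul_of_domain, hrev])
      (by rw [semiElem_aeval, hQf, LinearMap.zero_apply, map_zero]) hgen'
      (by rw [natDegree_pow, hdeg, finrank_sympSpace])
  refine ⟨_, semiElem_mem e he hf (frobE F E) fun c w => ?_,
    dec_of_block hE e he (k := Key.cyc Q 3) ⟨hQ, by norm_num, _, hcyc, rfl⟩ hgen'⟩
  show rotMap (F := F) t (shearMap (frobE F E) 0 (c • w)) = _
  rw [shearMap_smul, rotMap_smul]
  rfl

theorem semiGroup_ne_top : semiGroup e ≠ ⊤ := by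
  classical
  intro htop
  have h3 := three_eq_zero' F
  let c : Fin 3 ⊕ Fin 3 → F := fun i => if i = Sum.inl 0 ∨ i = Sum.inr 0 then -1 else 1
  have hc : ∀ x, (Matrix.diagonal c) *ᵥ x = fun i => c i * x i := fun x => funext (Matrix.mulVec_diagonal c x)
  let D : symplecticGroup (Fin 3) F := ⟨Matrix.diagonal c, (mem_symplectic_iff_form _).mpr fun x y => by
    simp only [hc, sympBilin_eq_sum, Fin.sum_univ_three]
    simp [c]⟩
  obtain ⟨τ, hτ⟩ := (show D ∈ semiGroup e by rw [htop]; trivial)
  let g : E × E → E × E := fun w => e.symm ((D : Matrix (Fin 3 ⊕ Fin 3) (Fin 3 ⊕ Fin 3) F) *ᵥ e w)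
  have hgg : ∀ w, g (g w) = w := fun w => by
    apply e.injective
    simp only [g, e.apply_symm_apply]
    show Matrix.diagonal c *ᵥ (Matrix.diagonal c *ᵥ e w) = e w
    rw [hc, hc]
    funext i
    simp only [c]
    split_ifs <;> ring
  have hτ2 : ∀ d, τ (τ d) = d := fun d => by
    have h1 : g (d • ((1 : E), (0 : E))) = τ d • g (1, 0) := hτ d _
    have h2 := congrArg g h1
    rw [hgg, show g (τ d • g (1, 0)) = τ (τ d) • g (g (1, 0)) from hτ (τ d) _, hgg] at h2
    simpa using (congrArg Prod.fst h2).symm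
  have hτ1 : τ = 1 := by
    have hord : orderOf τ ∣ 2 := orderOf_dvd_of_pow_eq_one (AlgEquiv.ext fun d => hτ2 d)
    have h3' : orderOf τ ∣ 3 := by
      have h := orderOf_dvd_natCard τ
      rwa [IsGalois.card_aut_eq_finrank, hE] at h
    exact orderOf_eq_one_iff.1 (Nat.dvd_one.1 (Nat.dvd_gcd hord h3'))
  let S : Submodule E (E × E) :=
    { carrier := {w | g w = w}
      add_mem' := fun {a b} ha hb => by
        show e.symm _ = _
        rw [map_add, Matrix.mulVec_add, map_add]
        exact congrArg₂ (· + ·) ha hb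
      zero_mem' := by simp [g]
      smul_mem' := fun d w hw => by
        show g (d • w) = d • w
        rw [show g (d • w) = τ d • g w from hτ d w, hτ1, hw]
        rfl }
  let π : (E × E) →ₗ[F] F × F :=
    ((LinearMap.proj (Sum.inl (0 : Fin 3))).prod (LinearMap.proj (Sum.inr (0 : Fin 3)))).comp e.toLinearMap
  have hker : S.restrictScalars F = LinearMap.ker π := by
    ext w
    show g w = w ↔ π w = 0
    rw [show (g w = w) ↔ Matrix.diagonal c *ᵥ e w = e w from e.symm_apply_eq, hc]
    simp only [π, LinearMap.comp_apply, LinearMap.prod_apply, Function.prod_apply, LinearMap.proj_apply,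
      LinearEquiv.coe_coe, Prod.mk_eq_zero, funext_iff]
    constructor
    · intro h
      have key : ∀ i, c i = -1 → e w i = 0 := fun i hi => by
        have := h i
        rw [hi] at this
        linear_combination this + e w i * h3
      exact ⟨key _ (by simp [c]), key _ (by simp [c])⟩
    · rintro ⟨h1, h2⟩ i
      by_cases hi : i = Sum.inl 0 ∨ i = Sum.inr 0
      · rcases hi with rfl | rfl <;> simp [h1, h2]
      · simp [c, hi]
  have hsurj : LinearMap.range π = ⊤ := LinearMap.range_eq_top.2 fun p =>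
    ⟨e.symm (Pi.single (Sum.inl 0) p.1 + Pi.single (Sum.inr 0) p.2), by simp [π]⟩
  have h6 := π.finrank_range_add_finrank_ker
  rw [hsurj, finrank_top, Module.finrank_prod, Module.finrank_self, finrank_plane_ext hE, ← hker] at h6
  have h7 := Module.finrank_mul_finrank F E S
  rw [hE] at h7
  have h8 : Module.finrank F (S.restrictScalars F) = Module.finrank F S := rfl
  omega

theorem psp_six_covered' : Covered (Cfsg.PSp 3 F) := by
  classical
  have h2 : (2 : F) ≠ 0 := two_ne_zero_of_three
  refine covered_quotient _ (semiGroup e) (planeStab (plane F)) (fun z hz => ?_) (fun z hz => ?_)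
    (semiGroup_ne_top hE e he) planeStab_ne_top fun A => ?_
  · obtain ⟨c, hc⟩ := exists_scalar_of_center hz
    refine ⟨AlgEquiv.refl, fun d w => ?_⟩
    rw [hc, hc, e.symm.map_smul, e.symm.map_smul, e.symm_apply_apply, e.symm_apply_apply, smul_comm]
    rfl
  · obtain ⟨c, hc⟩ := exists_scalar_of_center hz
    intro x hx
    rw [hc]
    exact (plane F).smul_mem c hx
  · set a := Matrix.toLin' (A : Matrix (Fin 3 ⊕ Fin 3) (Fin 3 ⊕ Fin 3) F) with ha
    obtain ⟨L, hL, -⟩ := exists_dec (isom_toLin A) (sympBilin_isAlt 3 F) h2 _ ⊤ (piece_top _) le_rfl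
    have hsum := hL.finrank (isom_toLin A) (sympBilin_isAlt 3 F) h2
    rw [finrank_top, finrank_sympSpace] at hsum
    have hsemi : ∀ A' ∈ semiGroup e, Dec (sympBilin 3 F)
        (Matrix.toLin' (A' : Matrix (Fin 3 ⊕ Fin 3) (Fin 3 ⊕ Fin 3) F)) L ⊤ →
        ∃ x, x * A * x⁻¹ ∈ semiGroup e ∨ x * A * x⁻¹ ∈ planeStab (plane F) := fun A' hA' hd => by
      obtain ⟨x, hx⟩ := isConj_iff.1 (isConj_of_dec h2 A A' hL hd (List.Perm.refl L))
      exact ⟨x, Or.inl (by rw [hx]; exact hA')⟩
    have hsize : ∀ k ∈ L, Even k.size ∧ 2 ≤ k.size := fun k hk => by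
      obtain ⟨U, -, hU⟩ := hL.exists_mem hk
      rcases k with ⟨Q, n⟩ | ⟨b, n, s⟩ | ⟨b, n⟩
      · obtain ⟨hQ, hn, -⟩ := hU
        obtain ⟨-, -, -, hev, hge⟩ := hQ.props h2
        exact ⟨hev.mul_right n, le_trans hge (Nat.le_mul_of_pos_right _ hn)⟩
      · obtain ⟨hn, hev, -⟩ := hU
        refine ⟨hev, ?_⟩
        obtain ⟨j, rfl⟩ := hev
        show 2 ≤ j + j
        omega
      · obtain ⟨v, w, hp, -⟩ := hU
        exact ⟨even_two_mul n, by show 2 ≤ 2 * n; have := hp.pos; omega⟩
    rcases L with _ | ⟨k, _ | ⟨k', L⟩⟩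
    · simp at hsum
    · simp only [List.map_cons, List.map_nil, List.sum_cons, List.sum_nil, add_zero] at hsum
      obtain ⟨U, -, hU⟩ := hL.exists_mem (k := k) (List.mem_singleton_self k)
      rcases k with ⟨Q, n⟩ | ⟨b, n, s⟩ | ⟨b, n⟩
      · obtain ⟨hQ, hn, -⟩ := hU
        obtain ⟨-, -, -, hev, hge⟩ := hQ.props h2
        have hs : Q.natDegree * n = 6 := by rw [show Q.natDegree * n = Key.size (Key.cyc Q n) from rfl, ← hsum]
        have hle : Q.natDegree ≤ 6 := hs ▸ Nat.le_mul_of_pos_right _ hn
        obtain ⟨j, hj⟩ := hev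
        rcases (show Q.natDegree = 2 ∨ Q.natDegree = 4 ∨ Q.natDegree = 6 by omega) with h | h | h
        · obtain rfl : n = 3 := by rw [h] at hs; omega
          obtain ⟨A', hA', hd⟩ := model_cyc_three hE e he hQ h
          exact hsemi A' hA' hd
        · rw [h] at hs; omega
        · obtain rfl : n = 1 := by rw [h] at hs; omega
          obtain ⟨A', hA', hd⟩ := model_cyc_one hE e he hQ h
          exact hsemi A' hA' hd
      · obtain rfl : n = 6 := by
          have : Key.size (Key.one b n s : Key F) = n := rfl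
          omega
        obtain ⟨A', hA', hd⟩ := model_one hE e he b s
        exact hsemi A' hA' hd
      · obtain rfl : n = 3 := by
          have : Key.size (Key.pair b n : Key F) = 2 * n := rfl
          omega
        obtain ⟨A', hA', hd⟩ := model_pair hE e he b
        exact hsemi A' hA' hd
    · simp only [List.map_cons, List.sum_cons] at hsum
      obtain ⟨hk1, hk2⟩ := hsize k (by simp)
      have hk' := (hsize k' (by simp)).2
      generalize hT : (⊤ : Submodule F (Fin 3 ⊕ Fin 3 → F)) = T at hL
      cases hL with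
      | @cons _ _ U W hU hW ho =>
        have hUd := hU.finrank (isom_toLin A) (sympBilin_isAlt 3 F) h2
        have hWd := hW.finrank (isom_toLin A) (sympBilin_isAlt 3 F) h2
        simp only [List.map_cons, List.sum_cons] at hWd
        obtain ⟨j, hj⟩ := hk1
        rcases (show k.size = 2 ∨ k.size = 4 by omega) with h | h
        · obtain ⟨x, hx⟩ := exists_conj_plane A U (by omega)
            (fun y hy => by simpa using hU.invariant X hy)
            (fun y hy hy' => hU.nondeg (isom_toLin A) (sympBilin_isAlt 3 F) h2 hy hy')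
          exact ⟨x, Or.inr hx⟩
        · obtain ⟨x, hx⟩ := exists_conj_plane A W (by omega)
            (fun y hy => by simpa using hW.invariant X y hy)
            (fun y hy hy' => (sympBilin_nondegenerate 3 F).1 y fun w => by
              obtain ⟨p, hp, q, hq, rfl⟩ := Submodule.mem_sup.1
                (show w ∈ U ⊔ W from by rw [← hT]; exact Submodule.mem_top)
              rw [map_add, hy' q hq, add_zero, alt_neg (sympBilin_isAlt 3 F), ho p hp y hy, neg_zero])
          exact ⟨x, Or.inr hx⟩

omit hE he in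
theorem psp_six_covered : Covered (Cfsg.PSp 3 F) := by
  haveI : Fact (Nat.Prime 3) := ⟨Nat.prime_three⟩
  let K := FiniteField.Extension F 3 3
  haveI := Fintype.ofFinite K
  haveI : CharP K 3 := charP_of_injective_algebraMap (algebraMap F K).injective 3
  have hK : Module.finrank F K = 3 := FiniteField.finrank_extension F 3 3
  obtain ⟨e, he⟩ := exists_isometry_sympBilin (m := 3) (B := traceAlt F K) traceAlt_isAlt traceAlt_nondegenerate
    (by rw [Module.finrank_prod, hK])
  exact psp_six_covered' hK e he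

end Cfsg.Lib.TwoClassCover
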