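import Mathlib
import Cfsg.Agent.Known.UnitOrders.Analysis
import Cfsg.Agent.Classical.Unitary.Maximal

/-! Invariant lines and totally isotropic planes of isometries of small Hermitian spaces. -/

set_option autoImplicit false
set_option linter.unusedSectionVars false
set_option linter.style.haveILetI false

open Polynomial

namespace Cfsg.Lib.TwoClassCover

open Cfsg.Lib.Classical

universe u v

variable {F : Type u} [Field F] [Fintype F] {V : Type v} [AddCommGroup V] [Module F V] [FiniteDimensional F V]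
  (H : HermSpace F V) {q : ℕ}

/-- A prime power root of the field order gives a Frobenius power. -/
theorem exists_frob (hF : Fintype.card F = q ^ 2) :
    ∃ p j : ℕ, p.Prime ∧ CharP F p ∧ q = p ^ j := by
  obtain ⟨p, hp⟩ := CharP.exists F
  obtain ⟨k, hk, hc⟩ := FiniteField.card F p
  obtain ⟨j, -, hj⟩ := (Nat.dvd_prime_pow hk).1 (show q ∣ p ^ (k : ℕ) by rw [← hc, hF]; exact dvd_pow_self q two_ne_zero)
  exact ⟨p, j, hk, hp, hj⟩

theorem pow_q_pow_q (hF : Fintype.card F = q ^ 2) (a : F) : (a ^ q) ^ q = a := by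
  rw [← pow_mul, ← pow_two, ← hF, FiniteField.pow_card]

/-- A self-dual quadratic polynomial has a root in the base field. -/
theorem quad_root (hF : Fintype.card F = q ^ 2) {b c : F} (hc : c * c ^ q = 1) (hb : b ^ q = c ^ q * b) :
    ∃ r : F, r ^ 2 + b * r + c = 0 := by
  classical
  obtain ⟨p, j, hp, hchar, rfl⟩ := exists_frob hF
  haveI := Fact.mk hp
  let K := AlgebraicClosure F
  haveI : CharP K p := charP_of_injective_algebraMap (algebraMap F K).injective p
  let ι := algebraMap F K
  obtain ⟨r, hr⟩ := IsAlgClosed.exists_root (X ^ 2 + C (ι b) * X + C (ι c) : K[X]) (by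
    rw [← one_mul (X ^ 2), ← map_one C, degree_quadratic one_ne_zero]; decide)
  simp only [IsRoot, eval_add, eval_pow, eval_X, eval_mul, eval_C] at hr
  set Q := p ^ j
  have hQ2 : 2 ≤ Q := by
    have h := Fintype.one_lt_card (α := F)
    rw [hF] at h
    by_contra hlt
    interval_cases Q <;> simp at h
  have hc0 : ι c ≠ 0 := fun h => by
    rw [map_eq_zero] at h; simp [h] at hc
  have hr0 : r ≠ 0 := fun h => hc0 (by simpa [h] using hr)
  have hcc : ι c * ι c ^ Q = 1 := by rw [← map_pow, ← map_mul, hc, map_one]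
  have hfr : (r ^ Q) ^ 2 + ι b ^ Q * r ^ Q + ι c ^ Q = 0 := by
    have h := congrArg (iterateFrobenius K p j) hr
    simpa [iterateFrobenius_def, map_add, mul_pow, ← pow_mul, mul_comm Q 2, zero_pow (pow_ne_zero j hp.ne_zero), Q] using h
  set s := (r ^ Q)⁻¹ with hs
  have hrQ : r ^ Q ≠ 0 := pow_ne_zero _ hr0
  have hbb : ι b ^ Q = ι c ^ Q * ι b := by rw [← map_pow, ← map_pow, ← map_mul, hb]
  have hsroot : s ^ 2 + ι b * s + ι c = 0 := by
    have hsR : s * r ^ Q = 1 := inv_mul_cancel₀ hrQ
    linear_combination s ^ 2 * (ι c * hfr - ι c * r ^ Q * hbb - (ι b * r ^ Q + 1) * hcc) -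
      (ι b * s + ι c * (1 + s * r ^ Q)) * hsR
  have hsplit : (s - r) * (s + r + ι b) = 0 := by linear_combination hsroot - hr
  have hpow : r ^ (Fintype.card F - 1) = 1 := by
    have hfac : Fintype.card F - 1 = (Q + 1) * (Q - 1) := by rw [hF, ← Nat.sq_sub_sq, one_pow]
    rw [hfac]
    rcases mul_eq_zero.1 hsplit with h | h
    · rw [pow_mul, show r ^ (Q + 1) = 1 by
        have h' : s = r := sub_eq_zero.1 h
        rw [pow_succ]; conv_lhs => arg 2; rw [← h', hs]
        exact mul_inv_cancel₀ hrQ, one_pow]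
    · have h1 : r ^ (Q - 1) * ι c = 1 := by
        have hprod : s * r = ι c := by linear_combination (r) * h - hr
        rw [hs, inv_mul_eq_iff_eq_mul₀ hrQ] at hprod
        refine mul_right_cancel₀ hr0 ?_
        rw [mul_right_comm, ← pow_succ, Nat.sub_add_cancel (by omega), one_mul, ← hprod]
      rw [mul_comm, pow_mul, eq_inv_of_mul_eq_one_left h1, inv_pow, pow_succ', hcc, inv_one]
  obtain ⟨r', hr'⟩ := UnitOrders.exists_algebraMap_of_pow hpow
  refine ⟨r', ι.injective ?_⟩
  simp only [map_add, map_mul, map_pow, map_zero]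
  rw [show ι r' = r from hr']
  exact hr

/-- An isometry as an endomorphism. -/
def toEnd : H.Isom →* Module.End F V where
  toFun g := g.1.toLinearMap
  map_one' := rfl
  map_mul' _ _ := rfl

theorem toEnd_apply (g : H.Isom) (x : V) : toEnd H g x = g.1 x := rfl

/-- The vectors killed by a monic quadratic without roots in an isometry are pairwise orthogonal. -/
theorem quad_ker_iso (hF : Fintype.card F = q ^ 2) (hσ : ∀ a, H.σ a = a ^ q) (g : H.Isom) {b c : F}
    (hno : ∀ r : F, r ^ 2 + b * r + c ≠ 0) {x y : V} (hx : g.1 (g.1 x) + b • g.1 x + c • x = 0)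
    (hy : g.1 (g.1 y) + b • g.1 y + c • y = 0) : H.h x y = 0 := by
  have hyy : ∀ w, g.1 (g.1 w) + b • g.1 w + c • w = 0 → g.1 (g.1 (g.1 w)) + b • g.1 (g.1 w) + c • g.1 w = 0 :=
    fun w hw => by
      have := congrArg g.1 hw
      simpa only [map_add, map_smul, map_zero] using this
  set A := 1 - H.σ (H.σ c * c) with hA
  set B := H.σ (H.σ b - H.σ c * b) with hB
  have hAB : ∀ w, g.1 (g.1 w) + b • g.1 w + c • w = 0 → A * H.h x w + B * H.h x (g.1 w) = 0 := fun w hw => by
    have e0 : H.h (g.1 (g.1 x) + b • g.1 x + c • x) (g.1 (g.1 w)) = 0 := by rw [hx, H.zero_left]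
    rw [H.add_left, H.add_left, H.smul_left, H.smul_left, H.map_form, H.map_form, H.map_form] at e0
    have e1 : H.h x (g.1 (g.1 w)) = -(H.σ b * H.h x (g.1 w)) - H.σ c * H.h x w := by
      have : g.1 (g.1 w) = (-b) • g.1 w + (-c) • w := by
        rw [neg_smul, neg_smul, ← sub_eq_zero, ← hw]; abel
      rw [this, H.add_right, H.smul_right, H.smul_right, map_neg, map_neg]
      ring
    rw [e1] at e0
    rw [hA, hB, map_mul, map_sub, map_mul, H.conj.invol, H.conj.invol]
    linear_combination e0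
  have h1 := hAB y hy
  by_cases hB0 : B = 0
  · by_cases hA0 : A = 0
    · exfalso
      have hA' : H.σ c * c = 1 := by
        apply H.conj.inj
        rw [map_one]
        exact (sub_eq_zero.1 hA0).symm
      have hB' : H.σ b = H.σ c * b := sub_eq_zero.1 (H.conj.eq_zero.1 hB0)
      obtain ⟨r, hr⟩ := quad_root hF (b := b) (c := c) (by rw [← hσ, mul_comm]; exact hA') (by rw [← hσ, ← hσ]; exact hB')
      exact hno r hr
    · rw [hB0, zero_mul, add_zero] at h1
      exact (mul_eq_zero.1 h1).resolve_left hA0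
  · by_contra hne
    set k := -A / B
    have hk : ∀ w, g.1 (g.1 w) + b • g.1 w + c • w = 0 → H.h x (g.1 w) = k * H.h x w := fun w hw => by
      rw [show k = -A / B from rfl, div_mul_eq_mul_div, eq_div_iff hB0]
      linear_combination hAB w hw
    have h2 := hk _ (hyy y hy)
    have e2 : H.h x (g.1 (g.1 y) + b • g.1 y + c • y) = 0 := by rw [hy, H.zero_right]
    rw [H.add_right, H.add_right, H.smul_right, H.smul_right, h2, hk y hy] at e2
    have e3 : k ^ 2 + H.σ b * k + H.σ c = 0 := by
      have : (k ^ 2 + H.σ b * k + H.σ c) * H.h x y = 0 := by linear_combination e2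
      exact (mul_eq_zero.1 this).resolve_right hne
    refine hno (H.σ k) ?_
    have := congrArg H.σ e3
    simpa only [map_add, map_mul, map_pow, map_zero, H.conj.invol] using this

theorem adjoint (g : H.Isom) (P : F[X]) (x z : V) :
    H.h (aeval (toEnd H g) P x) z = H.h x (aeval (toEnd H g⁻¹) (P.map H.σ) z) := by
  induction P using Polynomial.induction_on' with
  | add P Q hP hQ => rw [map_add, Polynomial.map_add, map_add, LinearMap.add_apply, LinearMap.add_apply, H.add_left, H.add_right, hP, hQ]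
  | monomial n a =>
    rw [map_monomial, aeval_monomial, aeval_monomial, Module.End.mul_apply, Module.End.mul_apply,
      Module.algebraMap_end_apply, Module.algebraMap_end_apply, H.smul_left, H.smul_right, H.conj.invol, ← map_pow,
      ← map_pow]
    congr 1
    conv_lhs => rw [← H.apply_inv_self (g ^ n) z]
    rw [toEnd_apply, toEnd_apply, H.map_form, inv_pow]

theorem aeval_adjoint_eq_zero (g : H.Isom) {P : F[X]} (hP : aeval (toEnd H g) P = 0) :
    aeval (toEnd H g⁻¹) (P.map H.σ) = 0 := by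
  refine LinearMap.ext fun z => ?_
  refine H.nondeg _ fun x => ?_
  rw [← adjoint, hP, LinearMap.zero_apply, H.zero_left]

/-- The self-duality of an irreducible annihilating polynomial. -/
theorem root_dual (hF : Fintype.card F = q ^ 2) (hσ : ∀ a, H.σ a = a ^ q) [Nontrivial V] (g : H.Isom) {χ : F[X]}
    (hχ : Irreducible χ) (hm : χ.Monic) (h0 : aeval (toEnd H g) χ = 0) :
    aeval ((AdjoinRoot.root χ ^ q) ^ (orderOf g - 1)) χ = 0 ∧ AdjoinRoot.root χ ^ orderOf g = 1 := by
  classical
  obtain ⟨p, j, hp, hchar, rfl⟩ := exists_frob hF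
  haveI := Fact.mk hp
  haveI : Fact (Irreducible χ) := ⟨hχ⟩
  haveI : CharP (AdjoinRoot χ) p := charP_of_injective_algebraMap (algebraMap F (AdjoinRoot χ)).injective p
  haveI : Finite V := Module.finite_of_finite F
  haveI : Finite H.Isom := Finite.of_injective (fun g : H.Isom => (g.1 : V → V)) fun a b h =>
    H.isom_ext fun x => congrFun h x
  have hN : 0 < orderOf g := orderOf_pos g
  have hμ : χ = minpoly F (toEnd H g) := minpoly.eq_of_irreducible_of_monic hχ h0 hm
  have hinv : toEnd H g⁻¹ = aeval (toEnd H g) ((X : F[X]) ^ (orderOf g - 1)) := by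
    rw [map_pow, aeval_X, ← map_pow]
    congr 1
    rw [eq_comm, eq_inv_iff_mul_eq_one, ← pow_succ, Nat.sub_add_cancel hN, pow_orderOf_eq_one]
  have hz := aeval_adjoint_eq_zero H g h0
  rw [hinv, ← aeval_comp] at hz
  have hd := minpoly.dvd F _ hz
  rw [← hμ] at hd
  have hd1 : χ ∣ X ^ orderOf g - 1 := by
    rw [hμ]
    refine minpoly.dvd F _ ?_
    rw [map_sub, map_pow, aeval_X, map_one, ← map_pow, pow_orderOf_eq_one, map_one, sub_self]
  refine ⟨?_, ?_⟩
  · have h1 := AdjoinRoot.mk_eq_zero.2 hd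
    rw [← AdjoinRoot.aeval_eq, aeval_comp, map_pow, aeval_X, aeval_def, eval₂_map] at h1
    have h2 := congrArg (iterateFrobenius (AdjoinRoot χ) p j) h1
    have hrh : (iterateFrobenius (AdjoinRoot χ) p j).comp ((algebraMap F (AdjoinRoot χ)).comp H.σ) =
        algebraMap F (AdjoinRoot χ) := by
      refine RingHom.ext fun a => ?_
      simp only [RingHom.comp_apply, iterateFrobenius_def, hσ]
      rw [← map_pow, pow_q_pow_q hF]
    rw [hom_eval₂, hrh, map_zero, map_pow, iterateFrobenius_def] at h2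
    rw [aeval_def]
    exact h2
  · have := AdjoinRoot.mk_eq_zero.2 hd1
    rwa [← AdjoinRoot.aeval_eq, map_sub, map_pow, aeval_X, map_one, sub_eq_zero] at this

/-- An isometry has no irreducible annihilating polynomial of degree four. -/
theorem not_irreducible_four (hF : Fintype.card F = q ^ 2) (hσ : ∀ a, H.σ a = a ^ q) [Nontrivial V] (g : H.Isom)
    {χ : F[X]} (hχ : Irreducible χ) (hm : χ.Monic) (h0 : aeval (toEnd H g) χ = 0) : χ.natDegree ≠ 4 := by
  classical
  intro hd
  obtain ⟨hroot, hord⟩ := root_dual H hF hσ g hχ hm h0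
  haveI : Fact (Irreducible χ) := ⟨hχ⟩
  haveI := (AdjoinRoot.powerBasis hχ.ne_zero).finite
  haveI : Finite (AdjoinRoot χ) := Module.finite_of_finite F
  set N := orderOf g
  set r := AdjoinRoot.root χ
  let φ0 : AdjoinRoot χ →ₐ[F] AdjoinRoot χ := AdjoinRoot.liftAlgHom χ (Algebra.ofId F _) ((r ^ q) ^ (N - 1)) hroot
  let φ : AdjoinRoot χ ≃ₐ[F] AdjoinRoot χ := AlgEquiv.ofBijective φ0
    ⟨φ0.toRingHom.injective, Finite.injective_iff_surjective.1 φ0.toRingHom.injective⟩
  have hφr : φ r = (r ^ q) ^ (N - 1) := by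
    show φ0 r = _
    exact AdjoinRoot.liftAlgHom_root χ (Algebra.ofId F (AdjoinRoot χ)) _ hroot
  have hrr : φ r * r ^ q = 1 := by
    haveI : Finite V := Module.finite_of_finite F
    haveI : Finite H.Isom := Finite.of_injective (fun g : H.Isom => (g.1 : V → V)) fun a b h =>
      H.isom_ext fun x => congrFun h x
    rw [hφr, ← pow_succ, Nat.sub_add_cancel (orderOf_pos g), ← pow_mul, mul_comm, pow_mul, hord, one_pow]
  have h1 : φ r = (r ^ q)⁻¹ := eq_inv_of_mul_eq_one_left hrr
  have h2 : φ (φ r) = (r ^ q) ^ q := by rw [h1, map_inv₀, map_pow, h1, inv_pow, inv_inv]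
  have h4 : φ (φ (φ (φ r))) = ((r ^ q) ^ q) ^ (q * q) := by
    rw [h2, map_pow, map_pow, map_pow, map_pow, h2, pow_mul]
  have hcard : Nat.card (AdjoinRoot χ ≃ₐ[F] AdjoinRoot χ) = 4 := by
    rw [IsGalois.card_aut_eq_finrank, (AdjoinRoot.powerBasis hχ.ne_zero).finrank, AdjoinRoot.powerBasis_dim, hd]
  have hid : φ (φ (φ (φ r))) = r := by
    have h := pow_card_eq_one' (x := φ)
    rw [hcard] at h
    simpa [pow_succ, AlgEquiv.mul_apply] using AlgEquiv.congr_fun h r
  rw [h4, ← pow_mul, ← pow_mul] at hid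
  have hdiv : χ ∣ X ^ Nat.card F ^ 2 - X := by
    rw [← AdjoinRoot.mk_eq_zero, map_sub, map_pow, AdjoinRoot.mk_X, sub_eq_zero]
    rw [Nat.card_eq_fintype_card, hF, show (q ^ 2) ^ 2 = q * (q * (q * q)) by ring]
    exact hid
  have := hχ.natDegree_dvd_of_dvd_X_pow_card_pow_sub_X hdiv
  rw [hd] at this
  norm_num at this

end Cfsg.Lib.TwoClassCover
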