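import Mathlib
import Cfsg.Prelude.Def_Classical
import Cfsg.Agent.Known.TwoClassCover.Linear
import Cfsg.Agent.Known.TwoClassCover.Unitary
import Cfsg.Agent.Classical.Unitary.Matrix

/-! The four dimensional special unitary group is covered by the conjugates of the stabilisers of a nondegenerate line
and of a totally isotropic plane. -/

set_option autoImplicit false
set_option linter.unusedSectionVars false
set_option linter.style.haveILetI false

open Polynomial

namespace Cfsg.Lib.TwoClassCover

open Cfsg.Lib.Classical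

universe u v

variable {F : Type u} [Field F] [Fintype F]

section Generic

variable {V : Type v} [AddCommGroup V] [Module F V] [FiniteDimensional F V] (H : HermSpace F V) {q : ℕ}

theorem apply_quad (T : Module.End F V) {f : F[X]} (hf : f.Monic) (hd : f.natDegree = 2) (x : V) :
    aeval T f x = T (T x) + f.coeff 1 • T x + f.coeff 0 • x := by
  conv_lhs => rw [hf.as_sum, hd]
  simp [Finset.sum_range_succ, Module.algebraMap_end_apply, pow_two]
  abel

theorem quad_no_root {f : F[X]} (hf : f.Monic) (hd : f.natDegree = 2) (hfi : Irreducible f) (r : F) :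
    r ^ 2 + f.coeff 1 * r + f.coeff 0 ≠ 0 := fun h => by
  have hroot : f.IsRoot r := by
    rw [IsRoot, hf.as_sum, hd]
    simp [Finset.sum_range_succ]
    linear_combination h
  exact hfi.not_isRoot_of_natDegree_ne_one (by omega) hroot

/-- An isometry of a nondegenerate plane has an eigenvector. -/
theorem exists_eig_two (hF : Fintype.card F = q ^ 2) (hσ : ∀ a, H.σ a = a ^ q) (hd : Module.finrank F V = 2)
    (g : H.Isom) : ∃ (w : V) (a : F), w ≠ 0 ∧ g.1 w = a • w := by
  haveI : Nontrivial V := Module.nontrivial_of_finrank_pos (R := F) (by omega)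
  set T := toEnd H g
  by_cases hr : ∃ a, T.charpoly.IsRoot a
  · obtain ⟨a, ha⟩ := hr
    obtain ⟨w, hw⟩ := ((Module.End.hasEigenvalue_iff_isRoot_charpoly T a).2 ha).exists_hasEigenvector
    exact ⟨w, a, hw.2, hw.apply_eq_smul⟩
  · push Not at hr
    exfalso
    have hm := T.charpoly_monic
    have hdeg : T.charpoly.natDegree = 2 := by rw [LinearMap.charpoly_natDegree, hd]
    obtain ⟨f, hf, hfi, hfd⟩ := exists_monic_irreducible_factor T.charpoly (not_isUnit_of_natDegree_pos _ (by omega))
    obtain ⟨h1, h2, -⟩ := degree_facts T.charpoly hm hdeg hr hfi hfd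
    have heq : f = T.charpoly := eq_of_monic_of_dvd_of_natDegree_le hf hm hfd (by omega) |>.symm
    obtain ⟨v, hv⟩ := H.exists_anisotropic
    have hk : ∀ x, g.1 (g.1 x) + f.coeff 1 • g.1 x + f.coeff 0 • x = 0 := fun x => by
      have e := apply_quad T hf (by omega) x
      rw [heq, LinearMap.aeval_self_charpoly, LinearMap.zero_apply] at e
      rw [heq]
      exact e.symm
    exact hv (quad_ker_iso H hF hσ g (quad_no_root hf (by omega) hfi) (hk v) (hk v))

/-- An isometry of a four dimensional space fixes a nondegenerate line or a totally isotropic plane. -/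
theorem line_or_plane (hF : Fintype.card F = q ^ 2) (hσ : ∀ a, H.σ a = a ^ q) (hd : Module.finrank F V = 4)
    (g : H.Isom) : (∃ (v : V) (a : F), H.h v v ≠ 0 ∧ g.1 v = a • v) ∨
      ∃ v w : V, LinearIndependent F ![v, w] ∧ H.h v v = 0 ∧ H.h w w = 0 ∧ H.h v w = 0 ∧
        g.1 v ∈ Submodule.span F ({v, w} : Set V) ∧ g.1 w ∈ Submodule.span F ({v, w} : Set V) := by
  classical
  haveI : Nontrivial V := Module.nontrivial_of_finrank_pos (R := F) (by omega)
  set T := toEnd H g
  by_cases haniso : ∃ (v : V) (a : F), H.h v v ≠ 0 ∧ g.1 v = a • v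
  · exact Or.inl haniso
  push Not at haniso
  right
  by_cases hr : ∃ a, T.charpoly.IsRoot a
  · obtain ⟨a, ha⟩ := hr
    obtain ⟨v, hv⟩ := ((Module.End.hasEigenvalue_iff_isRoot_charpoly T a).2 ha).exists_hasEigenvector
    have hv0 : v ≠ 0 := hv.2
    have hgv : g.1 v = a • v := hv.apply_eq_smul
    have hvv : H.h v v = 0 := by
      by_contra h
      exact haniso v a h hgv
    obtain ⟨u, hvu, huu⟩ := H.exists_hyperbolic hv0 hvv
    have huv : H.h u v = 1 := by rw [H.symm, hvu, map_one]
    have ha0 : a ≠ 0 := fun h => hv0 (g.1.injective (by rw [hgv, h, zero_smul, map_zero]))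
    set P := Submodule.span F ({v, u} : Set V)
    have hP := H.nondegOn_hyperbolic hvv hvu
    set M := H.orth P
    have hM := H.nondegOn_orth hP
    have hMd : Module.finrank F M = 2 := by rw [H.finrank_orth, H.finrank_hyperbolic hvv hvu, hd]
    have hmem : ∀ {x}, x ∈ M ↔ H.h x v = 0 ∧ H.h x u = 0 := fun {x} => by
      rw [H.mem_orth_span]
      simp
    let Tb : V →ₗ[F] V := g.1.toLinearMap - ((H.lin u).comp g.1.toLinearMap).smulRight v
    have hTb : ∀ x, Tb x = g.1 x - H.h (g.1 x) u • v := fun x => rfl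
    have hgxv : ∀ x, H.h x v = 0 → H.h (g.1 x) v = 0 := fun x hx => by
      have := H.map_form g x v
      rw [hgv, H.smul_right, hx, mul_eq_zero, H.conj.eq_zero] at this
      exact this.resolve_left ha0
    have hTM : ∀ x ∈ M, Tb x ∈ M := fun x hx => by
      obtain ⟨hxv, hxu⟩ := hmem.1 hx
      rw [hmem, hTb, H.sub_left, H.sub_left, H.smul_left, H.smul_left, hvv, hvu, hgxv x hxv]
      simp
    have hiso : ∀ x y, x ∈ M → y ∈ M → H.h (Tb x) (Tb y) = H.h x y := fun x y hx hy => by
      obtain ⟨hxv, -⟩ := hmem.1 hx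
      obtain ⟨hyv, -⟩ := hmem.1 hy
      rw [hTb, hTb, H.sub_left, H.sub_right, H.sub_right, H.smul_left, H.smul_left, H.smul_right, H.smul_right, hvv,
        hgxv x hxv, H.eq_zero_symm (hgxv y hyv), H.map_form]
      ring
    let TM : M →ₗ[F] M := Tb.restrict hTM
    have hinj : Function.Injective TM := by
      rw [injective_iff_map_eq_zero]
      intro x hx
      refine Subtype.ext (hM x.1 x.2 fun y hy => ?_)
      rw [← hiso y x hy x.2, show Tb x.1 = (TM x).1 from rfl, hx, Submodule.coe_zero, H.zero_right]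
    let gM : (H.restrict M hM).Isom := ⟨LinearEquiv.ofBijective TM ⟨hinj, LinearMap.injective_iff_surjective.1 hinj⟩,
      fun x y => hiso x.1 y.1 x.2 y.2⟩
    have hgM : ∀ x : M, ((gM.1 x : M) : V) = g.1 x.1 - H.h (g.1 x.1) u • v := fun x => hTb x.1
    obtain ⟨⟨w, hw⟩, b, hw0, hwe⟩ := exists_eig_two (H.restrict M hM) hF hσ hMd gM
    replace hw0 : w ≠ 0 := fun h => hw0 (Subtype.ext h)
    replace hwe : g.1 w = b • w + H.h (g.1 w) u • v := by
      have := congrArg Subtype.val hwe
      rw [hgM] at this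
      exact sub_eq_iff_eq_add.1 this
    -- an anisotropic eigenvector of the plane has the eigenvalue of the line
    have hkey : ∀ (z : V) (b k : F), z ∈ M → H.h z z ≠ 0 → g.1 z = b • z + k • v → b = a := by
      intro z b k hz hzz hgz
      by_contra hne
      obtain ⟨hzv, hzu⟩ := hmem.1 hz
      refine haniso (z + (k / (b - a)) • v) b ?_ ?_
      · simp only [H.add_left, H.add_right, H.smul_left, H.smul_right, hzv, H.eq_zero_symm hzv, hvv]
        simpa using hzz
      · have hba : b - a ≠ 0 := sub_ne_zero.2 hne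
        rw [map_add, map_smul, hgz, hgv, smul_smul, smul_add, smul_smul, add_assoc, ← add_smul]
        congr 2
        field_simp
        ring
    obtain ⟨hwv, hwu⟩ := hmem.1 hw
    by_cases hww : H.h w w = 0
    · refine ⟨v, w, ?_, hvv, hww, H.eq_zero_symm hwv, ?_, ?_⟩
      · rw [LinearIndependent.pair_iff]
        intro s t hst
        have h1 := congrArg (fun z => H.h z u) hst
        simp only [H.add_left, H.smul_left, hvu, hwu, H.zero_left, mul_one, mul_zero, add_zero] at h1
        rw [h1, zero_smul, zero_add] at hst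
        exact ⟨h1, (smul_eq_zero.1 hst).resolve_right hw0⟩
      · exact Submodule.mem_span_pair.2 ⟨a, 0, by rw [zero_smul, add_zero, hgv]⟩
      · exact Submodule.mem_span_pair.2 ⟨H.h (g.1 w) u, b, by conv_rhs => rw [hwe]; rw [add_comm]⟩
    · have hba := hkey w b _ hw hww hwe
      have hn : (H.restrict M hM).NondegOn (Submodule.span F {(⟨w, hw⟩ : M)}) :=
        (H.restrict M hM).nondegOn_span_singleton hww
      obtain ⟨⟨z, hzM⟩, hz, hz0⟩ := Submodule.exists_mem_ne_zero_of_ne_bot
        (p := (H.restrict M hM).orth (Submodule.span F {(⟨w, hw⟩ : M)})) (fun h => by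
          have h1 := (H.restrict M hM).finrank_orth (Submodule.span F {(⟨w, hw⟩ : M)})
          rw [h, finrank_bot, hMd, finrank_span_singleton (by exact fun e => hw0 (congrArg Subtype.val e))] at h1
          omega)
      have hzw : H.h z w = 0 := hz _ (Submodule.mem_span_singleton_self _)
      replace hz0 : z ≠ 0 := fun h => hz0 (Subtype.ext h)
      obtain ⟨hzv, hzu⟩ := hmem.1 hzM
      have hli : LinearIndependent F ![(⟨z, hzM⟩ : M), ⟨w, hw⟩] := by
        rw [LinearIndependent.pair_iff]
        intro s t hst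
        have hst' : s • z + t • w = 0 := congrArg Subtype.val hst
        have h1 := congrArg (fun y => H.h y w) hst'
        simp only [H.add_left, H.smul_left, hzw, H.zero_left, mul_zero, zero_add] at h1
        have ht := (mul_eq_zero.1 h1).resolve_right hww
        rw [ht, zero_smul, add_zero] at hst'
        exact ⟨(smul_eq_zero.1 hst').resolve_right hz0, ht⟩
      have hspan : Submodule.span F (Set.range ![(⟨z, hzM⟩ : M), ⟨w, hw⟩]) = ⊤ :=
        hli.span_eq_top_of_card_eq_finrank (by rw [Fintype.card_fin, hMd])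
      obtain ⟨s, t, hst⟩ : ∃ s t : F, s • z + t • w = g.1 z - H.h (g.1 z) u • v := by
        have hm : (gM.1 ⟨z, hzM⟩) ∈ Submodule.span F (Set.range ![(⟨z, hzM⟩ : M), ⟨w, hw⟩]) :=
          hspan ▸ Submodule.mem_top
        rw [Matrix.range_cons_cons_empty, Submodule.mem_span_pair] at hm
        obtain ⟨s, t, h⟩ := hm
        exact ⟨s, t, (congrArg Subtype.val h).trans (hgM _)⟩
      have hgz : g.1 z = s • z + t • w + H.h (g.1 z) u • v := (sub_eq_iff_eq_add.1 hst.symm)
      have hb0 : b ≠ 0 := hba ▸ ha0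
      have ht : t = 0 := by
        have h1 := H.map_form g z w
        rw [hgz, hwe, hzw] at h1
        simp only [H.add_left, H.add_right, H.smul_left, H.smul_right, hzw, hzv, hvv, H.eq_zero_symm hzv,
          H.eq_zero_symm hwv, hwv, mul_zero, add_zero, zero_add] at h1
        simp only [mul_eq_zero, H.conj.eq_zero] at h1
        tauto
      rw [ht, zero_smul, add_zero] at hgz
      have hzz : H.h z z ≠ 0 := fun h => hz0 (hM z hzM fun x hx => by
        obtain ⟨s', t', e⟩ := Submodule.mem_span_pair.1 (show (⟨x, hx⟩ : M) ∈ Submodule.span F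
          ({⟨z, hzM⟩, ⟨w, hw⟩} : Set M) by rw [← Matrix.range_cons_cons_empty, hspan]; exact Submodule.mem_top)
        rw [← show s' • z + t' • w = x from congrArg Subtype.val e]
        simp only [H.add_left, H.smul_left, h, H.eq_zero_symm hzw, mul_zero, add_zero])
      have hsa := hkey z s _ hzM hzz hgz
      obtain ⟨c, hc⟩ := H.conj.norm_surjective (a := -(H.h z z) / H.h w w)
        (by rw [map_div₀, map_neg, H.self_fixed, H.self_fixed])
      rw [eq_div_iff hww] at hc
      refine ⟨v, z + c • w, ?_, hvv, ?_, ?_, ?_, ?_⟩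
      · rw [LinearIndependent.pair_iff]
        intro s' t' hst'
        have h1 := congrArg (fun y => H.h y u) hst'
        simp only [H.add_left, H.smul_left, hvu, hwu, hzu, H.zero_left, mul_one, mul_zero, add_zero] at h1
        rw [h1, zero_smul, zero_add, smul_eq_zero] at hst'
        refine ⟨h1, hst'.resolve_right fun e => hzz ?_⟩
        have h2 := congrArg (fun y => H.h y z) e
        simpa [H.add_left, H.smul_left, H.eq_zero_symm hzw, H.zero_left] using h2
      · simp only [H.add_left, H.add_right, H.smul_left, H.smul_right, hzw, H.eq_zero_symm hzw]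
        linear_combination hc
      · rw [H.add_right, H.smul_right, H.eq_zero_symm hzv, H.eq_zero_symm hwv, mul_zero, add_zero]
      · exact Submodule.mem_span_pair.2 ⟨a, 0, by rw [zero_smul, add_zero, hgv]⟩
      · refine Submodule.mem_span_pair.2 ⟨H.h (g.1 z) u + c * H.h (g.1 w) u, a, ?_⟩
        rw [map_add, map_smul]
        conv_rhs => rw [hgz, hwe, hba, hsa]
        rw [add_smul, smul_add, smul_add, smul_smul, smul_smul, smul_smul, mul_comm a c]
        abel
  · push Not at hr
    have hm := T.charpoly_monic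
    have hdeg : T.charpoly.natDegree = 4 := by rw [LinearMap.charpoly_natDegree, hd]
    obtain ⟨f, hf, hfi, hfd⟩ := exists_monic_irreducible_factor T.charpoly (not_isUnit_of_natDegree_pos _ (by omega))
    obtain ⟨h1, h2, h3⟩ := degree_facts T.charpoly hm hdeg hr hfi hfd
    have hf2 : f.natDegree = 2 := by
      rcases (show f.natDegree = 2 ∨ f.natDegree = 4 by omega) with h | h
      · exact h
      · have heq : f = T.charpoly := eq_of_monic_of_dvd_of_natDegree_le hf hm hfd (by omega) |>.symm
        exact absurd h (not_irreducible_four H hF hσ g hfi hf (heq ▸ LinearMap.aeval_self_charpoly T))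
    obtain ⟨x, hx0, hx⟩ : ∃ x, x ≠ 0 ∧ aeval T f x = 0 := by
      by_contra hne
      push Not at hne
      let b : Module.Basis (Fin 4) F V := Module.finBasisOfFinrankEq F V hd
      let e := LinearMap.toMatrixAlgEquiv b
      have hdvd : f ∣ minpoly F T := by
        rw [← minpoly.algEquiv_eq e T]
        refine UnitOrders.dvd_minpoly_of_dvd_charpoly _ hfi ?_
        show f ∣ (LinearMap.toMatrixAlgEquiv b T).charpoly
        rwa [show LinearMap.toMatrixAlgEquiv b T = LinearMap.toMatrix b b T from rfl, LinearMap.charpoly_toMatrix]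
      obtain ⟨c, hc⟩ := hdvd
      have hi : Function.Injective (aeval T f) := (injective_iff_map_eq_zero _).2 fun z hz => by
        by_contra h; exact hne z h hz
      have hc0 : aeval T c = 0 := LinearMap.ext fun z => hi (by
        rw [LinearMap.zero_apply, map_zero, ← Module.End.mul_apply, ← map_mul, ← hc, minpoly.aeval, LinearMap.zero_apply])
      have hcne : c ≠ 0 := fun h => minpoly.ne_zero (IsIntegral.of_finite F T) (by rw [hc, h, mul_zero])
      have hle := natDegree_le_natDegree (minpoly.degree_le_of_ne_zero F T hcne hc0)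
      rw [hc, natDegree_mul hfi.ne_zero hcne] at hle
      omega
    rw [apply_quad T hf hf2] at hx
    have hno := quad_no_root hf hf2 hfi
    have hx1 : g.1 (g.1 (g.1 x)) + f.coeff 1 • g.1 (g.1 x) + f.coeff 0 • g.1 x = 0 := by
      have := congrArg g.1 hx
      simpa [map_add, map_smul, toEnd_apply, T] using this
    refine ⟨x, g.1 x, ?_, quad_ker_iso H hF hσ g hno hx hx, quad_ker_iso H hF hσ g hno hx1 hx1,
      quad_ker_iso H hF hσ g hno hx hx1, Submodule.mem_span_pair.2 ⟨0, 1, by simp⟩,
      Submodule.mem_span_pair.2 ⟨-f.coeff 0, -f.coeff 1, ?_⟩⟩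
    · rw [LinearIndependent.pair_iff' hx0]
      intro a hga
      exact hr a ((Module.End.hasEigenvalue_iff_isRoot_charpoly T a).1
        (Module.End.hasEigenvalue_of_hasEigenvector (⟨Module.End.mem_eigenspace_iff.2 hga.symm, hx0⟩)))
    · rw [neg_smul, neg_smul, ← sub_eq_zero, ← neg_eq_zero, ← hx]
      simp only [T, toEnd_apply]
      abel

/-- A basis in hyperbolic pairs. -/
def IsFrame (b : Module.Basis (Fin 4) F V) : Prop :=
  ∀ i j, H.h (b i) (b j) = if j = i + 2 then 1 else 0

theorem frame_of_plane (hd : Module.finrank F V = 4) {v w : V} (hli : LinearIndependent F ![v, w]) (hvv : H.h v v = 0)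
    (hww : H.h w w = 0) (hvw : H.h v w = 0) : ∃ b : Module.Basis (Fin 4) F V, IsFrame H b ∧
      Submodule.span F ({b 0, b 1} : Set V) = Submodule.span F ({v, w} : Set V) := by
  classical
  have hv0 : v ≠ 0 := hli.ne_zero 0
  obtain ⟨u, hvu, huu⟩ := H.exists_hyperbolic hv0 hvv
  have huv : H.h u v = 1 := by rw [H.symm, hvu, map_one]
  set w' := w - H.h w u • v with hw'
  have hP := H.nondegOn_hyperbolic hvv hvu
  set M := H.orth (Submodule.span F ({v, u} : Set V))
  have hM := H.nondegOn_orth hP
  have hw'M : w' ∈ M := by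
    rw [H.mem_orth_span]
    simp [hw', H.sub_left, H.smul_left, hvv, hvu, H.eq_zero_symm hvw]
  have hw'0 : (⟨w', hw'M⟩ : M) ≠ 0 := fun e => by
    have e' : w - H.h w u • v = 0 := congrArg Subtype.val e
    exact one_ne_zero ((LinearIndependent.pair_iff.1 hli) (-H.h w u) 1 (by rw [neg_smul, one_smul, ← e']; abel)).2
  have hw'w' : H.h w' w' = 0 := by
    simp [hw', H.sub_left, H.sub_right, H.smul_left, H.smul_right, hvv, hww, hvw, H.eq_zero_symm hvw]
  obtain ⟨⟨t, htM⟩, hwt, htt⟩ := (H.restrict M hM).exists_hyperbolic hw'0 hw'w'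
  replace hwt : H.h w' t = 1 := hwt
  replace htt : H.h t t = 0 := htt
  have htw : H.h t w' = 1 := by rw [H.symm, hwt, map_one]
  rw [H.mem_orth_span] at hw'M htM
  have a1 : H.h w' v = 0 := hw'M v (by simp)
  have a2 : H.h w' u = 0 := hw'M u (by simp)
  have a3 : H.h t v = 0 := htM v (by simp)
  have a4 : H.h t u = 0 := htM u (by simp)
  let e : Fin 4 → V := ![v, w', u, t]
  have hgram : ∀ i j, H.h (e i) (e j) = if j = i + 2 then 1 else 0 := by
    intro i j
    fin_cases i <;> fin_cases j <;>
      simp [e, hvv, hvu, huv, huu, hw'w', hwt, htw, htt, a1, a2, a3, a4, H.eq_zero_symm a1, H.eq_zero_symm a2,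
        H.eq_zero_symm a3, H.eq_zero_symm a4]
  have hind : LinearIndependent F e := by
    rw [Fintype.linearIndependent_iff]
    intro c hc i
    have := congrArg (fun y => H.h y (e (i + 2))) hc
    simpa [H.sum_left, H.smul_left, hgram, H.zero_left, Finset.sum_ite_eq, add_left_inj] using this
  let b := basisOfLinearIndependentOfCardEqFinrank hind (by rw [Fintype.card_fin, hd])
  have hb : ∀ i, b i = e i := fun i => by simp [b]
  refine ⟨b, fun i j => by rw [hb, hb, hgram], ?_⟩
  rw [hb, hb, show e 0 = v from rfl, show e 1 = w' from rfl]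
  refine le_antisymm (Submodule.span_le.2 ?_) (Submodule.span_le.2 ?_) <;> rintro z (rfl | rfl)
  · exact Submodule.subset_span (by simp)
  · exact Submodule.mem_span_pair.2 ⟨-H.h w u, 1, by rw [hw', neg_smul, one_smul]; abel⟩
  · exact Submodule.subset_span (by simp)
  · exact Submodule.mem_span_pair.2 ⟨H.h z u, 1, by rw [hw', one_smul]; abel⟩

theorem isom_of_gram {ι : Type*} [Fintype ι] (b b' : Module.Basis ι F V)
    (h : ∀ i j, H.h (b' i) (b' j) = H.h (b i) (b j)) : ∃ g : H.Isom, ∀ i, g.1 (b i) = b' i := by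
  refine ⟨⟨b.equiv b' (Equiv.refl ι), fun x y => ?_⟩, fun i => by simp⟩
  rw [← b.sum_repr x, ← b.sum_repr y]
  simp only [map_sum, map_smul, Module.Basis.equiv_apply, Equiv.refl_apply, H.sum_left, H.sum_right, H.smul_left,
    H.smul_right, h]

theorem four_covered (hF : Fintype.card F = q ^ 2) (hσ : ∀ a, H.σ a = a ^ q) (hd : Module.finrank F V = 4) :
    Covered (H.SIsom ⧸ Subgroup.center H.SIsom) := by
  classical
  haveI : Nontrivial V := Module.nontrivial_of_finrank_pos (R := F) (by omega)
  obtain ⟨e, he⟩ := H.exists_norm_one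
  obtain ⟨v0, hv00, hv0v0⟩ : ∃ v : V, v ≠ 0 ∧ H.h v v = 0 := by
    obtain ⟨b, hb⟩ := H.exists_orthonormal
    obtain ⟨c, hc⟩ := H.conj.norm_surjective (a := (-1 : F)) (by rw [map_neg, map_one])
    let i : Fin (Module.finrank F V) := ⟨0, by omega⟩
    let j : Fin (Module.finrank F V) := ⟨1, by omega⟩
    have hij : i ≠ j := by simp [i, j, Fin.ext_iff]
    refine ⟨b i + c • b j, fun h => ?_, ?_⟩
    · have := congrArg (fun y => H.h y (b i)) h
      simp [H.add_left, H.smul_left, hb, hij.symm, H.zero_left] at this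
    · simp [H.add_left, H.add_right, H.smul_left, H.smul_right, hb, hij, hij.symm]
      linear_combination hc
  obtain ⟨u, hu, huu⟩ := H.exists_hyperbolic hv00 hv0v0
  have hM := H.nondegOn_orth (H.nondegOn_hyperbolic hv0v0 hu)
  set M := H.orth (Submodule.span F ({v0, u} : Set V))
  haveI : Nontrivial M := Module.nontrivial_of_finrank_pos (R := F)
    (by rw [H.finrank_orth, H.finrank_hyperbolic hv0v0 hu, hd]; norm_num)
  obtain ⟨⟨w0, hw0M⟩, hw00, hw0w0⟩ : ∃ w : M, w ≠ 0 ∧ H.h (w : V) w = 0 := by
    obtain ⟨b, hb⟩ := (H.restrict M hM).exists_orthonormal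
    have hMd : Module.finrank F M = 2 := by rw [H.finrank_orth, H.finrank_hyperbolic hv0v0 hu, hd]
    obtain ⟨c, hc⟩ := H.conj.norm_surjective (a := (-1 : F)) (by rw [map_neg, map_one])
    let i : Fin (Module.finrank F M) := ⟨0, by omega⟩
    let j : Fin (Module.finrank F M) := ⟨1, by omega⟩
    have hij : i ≠ j := by simp [i, j, Fin.ext_iff]
    have hb' : ∀ k l, H.h (b k : V) (b l) = if k = l then 1 else 0 := hb
    refine ⟨b i + c • b j, fun h => ?_, ?_⟩
    · have := congrArg (fun y : M => H.h (y : V) (b i)) h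
      simp [H.add_left, H.smul_left, hb', hij.symm, H.zero_left] at this
    · simp [H.add_left, H.add_right, H.smul_left, H.smul_right, hb', hij, hij.symm]
      linear_combination hc
  rw [H.mem_orth_span] at hw0M
  obtain ⟨b0, hb0, -⟩ := frame_of_plane H hd (v := v0) (w := w0) (by
    rw [LinearIndependent.pair_iff]
    intro s t hst
    have h1 := congrArg (fun y => H.h y u) hst
    simp only [H.add_left, H.smul_left, hu, hw0M u (by simp), H.zero_left, mul_one, mul_zero, add_zero] at h1
    rw [h1, zero_smul, zero_add] at hst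
    exact ⟨h1, (smul_eq_zero.1 hst).resolve_right fun e => hw00 (Subtype.ext e)⟩)
    hv0v0 hw0w0 (H.eq_zero_symm (hw0M v0 (by simp)))
  set L := Submodule.span F ({e} : Set V)
  set W := Submodule.span F ({b0 0, b0 1} : Set V)
  have hL : H.NondegOn L := H.nondegOn_span_singleton (by rw [he]; exact one_ne_zero)
  have he0 : e ≠ 0 := fun h => by rw [h, H.zero_left] at he; exact zero_ne_one he
  have hLd : Module.finrank F L = 1 := finrank_span_singleton he0
  have hW0 : W ≠ ⊥ := fun h => b0.ne_zero 0 ((Submodule.eq_bot_iff W).1 h _ (Submodule.subset_span (by simp)))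
  have hWiso : W ≤ H.orth W := by
    refine Submodule.span_le.2 ?_
    rintro x (rfl | rfl) <;> rw [SetLike.mem_coe, H.mem_orth_span] <;> rintro y (rfl | rfl) <;> rw [hb0] <;> simp
  refine covered_quotient _ (H.sSubStab L) (H.sSubStab W) ?_ ?_
    (H.isCoatom_sSubStab_nondegenerate (fun h => he0 ((Submodule.eq_bot_iff L).1 h e (Submodule.mem_span_singleton_self e)))
      hL (by omega) (by omega) (by omega)).1
    (H.isCoatom_sSubStab_isotropic (Or.inl (by omega)) hW0 hWiso).1 fun g => ?_
  · intro z hz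
    obtain ⟨a, -, -, ha⟩ := (H.mem_center_SIsom_iff (by omega)).1 hz
    exact H.mem_sSubStab.2 (H.mem_subStab_of_map_le fun x hx => by rw [ha]; exact L.smul_mem a hx)
  · intro z hz
    obtain ⟨a, -, -, ha⟩ := (H.mem_center_SIsom_iff (by omega)).1 hz
    exact H.mem_sSubStab.2 (H.mem_subStab_of_map_le fun x hx => by rw [ha]; exact W.smul_mem a hx)
  rcases line_or_plane H hF hσ hd g.1 with ⟨v, a, hv, hgv⟩ | ⟨v, w, hli, hvv, hww, hvw, hgv, hgw⟩
  · obtain ⟨c, hc⟩ := H.conj.norm_surjective (a := (H.h v v)⁻¹) (by rw [map_inv₀, H.self_fixed])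
    obtain ⟨g0, hg0⟩ := H.transitive_anisotropic (v := c • v) (v' := e)
      (by rw [H.smul_left, H.smul_right, ← mul_assoc, hc, inv_mul_cancel₀ hv]; exact one_ne_zero)
      (by rw [he, H.smul_left, H.smul_right, ← mul_assoc, hc, inv_mul_cancel₀ hv])
    obtain ⟨z, hz⟩ := H.exists_SIsom_correct g0 he
    refine ⟨⟨_, hz⟩, Or.inl (H.mem_sSubStab.2 (H.mem_subStab_of_map_le fun x hx => ?_))⟩
    obtain ⟨k, rfl⟩ := Submodule.mem_span_singleton.1 hx
    set y := H.qrefl he z * g0 with hy
    have hyv : y.1 (c • v) = (z.1 : F) • e := by rw [hy, H.mul_apply', hg0, H.qrefl_self]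
    have hinv : (y⁻¹).1 e = ((z.1⁻¹ : Fˣ) : F) • c • v := by
      apply y.1.injective
      rw [H.apply_inv_self, map_smul, hyv, smul_smul, ← Units.val_mul, inv_mul_cancel, Units.val_one, one_smul]
    show (y * g.1 * y⁻¹).1 (k • e) ∈ L
    rw [map_smul, H.mul_apply', H.mul_apply', hinv, map_smul, map_smul]
    refine L.smul_mem k (L.smul_mem _ ?_)
    rw [show g.1.1 (c • v) = a • c • v by rw [map_smul, hgv, smul_comm], map_smul, hyv]
    exact L.smul_mem _ (L.smul_mem _ (Submodule.mem_span_singleton_self e))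
  · obtain ⟨b, hb, hbs⟩ := frame_of_plane H hd hli hvv hww hvw
    obtain ⟨g0, hg0⟩ := isom_of_gram H b b0 fun i j => by rw [hb, hb0]
    obtain ⟨x, hx0, hx⟩ := H.conj.exists_div_eq (c := (((H.detHom g0)⁻¹ : Fˣ) : F))
      (by
        have h := congrArg Units.val (MonoidHom.mem_ker.1 (inv_mem (H.det_mem_norm_ker g0)))
        rw [coe_normUnits, Units.val_one] at h
        exact h)
    let d : Fin 4 → F := ![x, 1, (H.σ x)⁻¹, 1]
    have hd0 : ∀ i, d i ≠ 0 := by intro i; fin_cases i <;> simp [d, hx0, H.conj.eq_zero]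
    obtain ⟨δ, hδ⟩ := isom_of_gram H b0 (b0.isUnitSMul fun i => (hd0 i).isUnit) fun i j => by
      rw [Module.Basis.isUnitSMul_apply, Module.Basis.isUnitSMul_apply, H.smul_left, H.smul_right, hb0]
      fin_cases i <;> fin_cases j <;> simp [d, hx0, H.conj.eq_zero, H.conj.invol]
    simp only [Module.Basis.isUnitSMul_apply] at hδ
    have hdet : ((H.detHom δ : Fˣ) : F) = ((H.detHom g0 : Fˣ) : F)⁻¹ := by
      show ((LinearEquiv.det δ.1 : Fˣ) : F) = _
      rw [LinearEquiv.coe_det, show δ.1.toLinearMap = Matrix.toLin b0 b0 (Matrix.diagonal d) from b0.ext fun i => by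
        rw [LinearEquiv.coe_coe, hδ, Matrix.toLin_self]
        simp [Matrix.diagonal_apply], LinearMap.det_toLin, Matrix.det_diagonal, Fin.prod_univ_four]
      simp only [d, Matrix.cons_val_zero, Matrix.cons_val_one, Matrix.cons_val_two, Matrix.cons_val_three,
        Matrix.tail_cons, Matrix.head_cons, mul_one]
      rw [← Units.val_inv_eq_inv_val]
      conv_lhs => arg 1; rw [hx]
      rw [mul_assoc, mul_inv_cancel₀ (by rwa [ne_eq, H.conj.eq_zero]), mul_one]
    have hy : δ * g0 ∈ H.SIsom := by
      rw [HermSpace.SIsom, MonoidHom.mem_ker, map_mul]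
      exact Units.ext (by rw [Units.val_mul, hdet, inv_mul_cancel₀ (Units.ne_zero _), Units.val_one])
    refine ⟨⟨_, hy⟩, Or.inr (H.mem_sSubStab.2 (H.mem_subStab_of_map_le fun z hz => ?_))⟩
    set y := δ * g0 with hydef
    have hmap : ∀ p ∈ Submodule.span F ({v, w} : Set V), y.1 p ∈ W := by
      intro p hp
      rw [← hbs] at hp
      obtain ⟨s, t, rfl⟩ := Submodule.mem_span_pair.1 hp
      rw [map_add, map_smul, map_smul, hydef, H.mul_apply', H.mul_apply', hg0, hg0, hδ, hδ]
      exact Submodule.mem_span_pair.2 ⟨s * d 0, t * d 1, by rw [smul_smul, smul_smul]⟩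
    have hback : (y⁻¹).1 z ∈ Submodule.span F ({v, w} : Set V) := by
      rw [← hbs]
      obtain ⟨s, t, rfl⟩ := Submodule.mem_span_pair.1 hz
      refine Submodule.mem_span_pair.2 ⟨s * (d 0)⁻¹, t * (d 1)⁻¹, y.1.injective ?_⟩
      rw [H.apply_inv_self, map_add, map_smul, map_smul, hydef, H.mul_apply', H.mul_apply', hg0, hg0, hδ, hδ,
        smul_smul, smul_smul, mul_assoc, mul_assoc, inv_mul_cancel₀ (hd0 0), inv_mul_cancel₀ (hd0 1), mul_one, mul_one]
    show (y * g.1 * y⁻¹).1 z ∈ W
    rw [H.mul_apply', H.mul_apply']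
    refine hmap _ ?_
    obtain ⟨s, t, hst⟩ := Submodule.mem_span_pair.1 hback
    rw [← hst, map_add, map_smul, map_smul]
    exact Submodule.add_mem _ (Submodule.smul_mem _ s hgv) (Submodule.smul_mem _ t hgw)

end Generic

/-- Covers transfer along isomorphisms. -/
theorem covered_of_mulEquiv {G G' : Type*} [Group G] [Group G'] (e : G ≃* G') (h : Covered G) : Covered G' := by
  obtain ⟨A, B, hA, hB, hcov⟩ := h
  refine ⟨A.map e.toMonoidHom, B.map e.toMonoidHom, fun h => hA ?_, fun h => hB ?_, fun g => ?_⟩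
  · refine Subgroup.map_injective (f := e.toMonoidHom) e.injective ?_
    rw [h, Subgroup.map_top_of_surjective e.toMonoidHom e.surjective]
  · refine Subgroup.map_injective (f := e.toMonoidHom) e.injective ?_
    rw [h, Subgroup.map_top_of_surjective e.toMonoidHom e.surjective]
  · obtain ⟨x, hx⟩ := hcov (e.symm g)
    refine ⟨e x, ?_⟩
    have hg : e x * g * (e x)⁻¹ = e.toMonoidHom (x * e.symm g * x⁻¹) := by simp
    rw [hg]
    exact hx.imp (Subgroup.mem_map_of_mem _) (Subgroup.mem_map_of_mem _)

theorem covered_quotient_center_of_mulEquiv {G G' : Type*} [Group G] [Group G'] (e : G ≃* G')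
    (h : Covered (G ⧸ Subgroup.center G)) : Covered (G' ⧸ Subgroup.center G') := by
  refine covered_of_mulEquiv (QuotientGroup.congr _ _ e ?_) h
  ext y
  simp only [Subgroup.mem_map, Subgroup.mem_center_iff]
  exact ⟨fun ⟨x, hx, hxy⟩ g => by
      obtain ⟨z, rfl⟩ := e.surjective g
      rw [← hxy, MonoidHom.coe_coe, ← map_mul, ← map_mul, hx],
    fun hy => ⟨e.symm y, fun g => e.injective (by simp [hy (e g)]), by simp⟩⟩

theorem psu_four_covered {q : ℕ} (hF : Fintype.card F = q ^ 2) : Covered (Cfsg.PSU 4 F q) :=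
  covered_quotient_center_of_mulEquiv (suEquiv 4 hF)
    (four_covered (stdHerm 4 hF) hF (powConj_apply hF) (Module.finrank_fin_fun F))

end Cfsg.Lib.TwoClassCover
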