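import Mathlib
import Cfsg.Agent.Known.TwoClassCover.UnitaryFour

/-! In characteristic three the three dimensional special unitary group is covered by the conjugates of the stabiliser
of a nondegenerate line and of the normaliser of a Singer torus. -/

set_option autoImplicit false
set_option linter.unusedSectionVars false
set_option linter.style.haveILetI false

open Polynomial

namespace Cfsg.Lib.TwoClassCover

open Cfsg.Lib.Classical

universe u v w

variable {F : Type u} [Field F] [Fintype F] [CharP F 3] {V : Type v} [AddCommGroup V] [Module F V]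
  [FiniteDimensional F V] (H : HermSpace F V) {E : Type w} [Field E] [Fintype E] [Algebra F E] [CharP E 3] {a : ℕ}

section Conj

variable (E) in
/-- The involution of the cubic extension. -/
noncomputable def rho (a : ℕ) : E →+* E := iterateFrobenius E 3 (3 * a)

theorem rho_apply (x : E) : rho E a x = x ^ ((3 ^ a) ^ 3) := by
  rw [rho, iterateFrobenius_def, mul_comm 3 a, pow_mul]

theorem rho_alg (hF : Fintype.card F = (3 ^ a) ^ 2) (hσ : ∀ c, H.σ c = c ^ 3 ^ a) (c : F) :
    rho E a (algebraMap F E c) = algebraMap F E (H.σ c) := by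
  rw [rho_apply, ← map_pow, hσ, pow_succ' (3 ^ a) 2, pow_mul, ← hF, FiniteField.pow_card]

theorem rho_rho (hF : Fintype.card F = (3 ^ a) ^ 2) (hE : Module.finrank F E = 3) (x : E) :
    rho E a (rho E a x) = x := by
  have hc : Fintype.card E = ((3 ^ a) ^ 3) * ((3 ^ a) ^ 3) := by
    rw [Module.card_eq_pow_finrank (K := F), hE, hF]; ring
  rw [rho_apply, rho_apply, ← pow_mul, ← hc, FiniteField.pow_card]

theorem rho_isConj (hF : Fintype.card F = (3 ^ a) ^ 2) (hσ : ∀ c, H.σ c = c ^ 3 ^ a) (hE : Module.finrank F E = 3) :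
    IsConj (rho E a) := by
  refine ⟨rho_rho hF hE, ?_⟩
  obtain ⟨c, hc⟩ := H.conj.ne_id
  exact ⟨algebraMap F E c, fun h => hc ((algebraMap F E).injective (by rw [← rho_alg H hF hσ, h]))⟩

theorem trace_rho (hF : Fintype.card F = (3 ^ a) ^ 2) (hσ : ∀ c, H.σ c = c ^ 3 ^ a) (x : E) :
    Algebra.trace F E (rho E a x) = H.σ (Algebra.trace F E x) := by
  apply (algebraMap F E).injective
  rw [← rho_alg H hF hσ, FiniteField.algebraMap_trace_eq_sum_pow, FiniteField.algebraMap_trace_eq_sum_pow, map_sum]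
  simp only [map_pow]

theorem norm_rho (hF : Fintype.card F = (3 ^ a) ^ 2) (hσ : ∀ c, H.σ c = c ^ 3 ^ a) (x : E) :
    Algebra.norm F (rho E a x) = H.σ (Algebra.norm F x) := by
  apply (algebraMap F E).injective
  rw [← rho_alg H hF hσ, FiniteField.algebraMap_norm_eq_pow_sum, FiniteField.algebraMap_norm_eq_pow_sum, map_pow]

/-- The trace form on the cubic extension. -/
noncomputable def extHerm (hF : Fintype.card F = (3 ^ a) ^ 2) (hσ : ∀ c, H.σ c = c ^ 3 ^ a)
    (hE : Module.finrank F E = 3) : HermSpace F E where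
  σ := H.σ
  h x y := Algebra.trace F E (x * rho E a y)
  conj := H.conj
  add_left x y z := by rw [add_mul, map_add]
  smul_left c x z := by rw [smul_mul_assoc, map_smul, smul_eq_mul]
  symm x y := by rw [← trace_rho H hF hσ, map_mul (rho E a), rho_rho hF hE, mul_comm]
  nondeg v hv := by
    have h0 : rho E a v = 0 := (traceForm_nondegenerate F E).2 _ fun x => by
      rw [Algebra.traceForm_apply]; exact hv x
    exact (map_eq_zero (rho E a)).1 h0

/-- The normaliser of the extension field. -/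
def fieldNormalizer (e : V ≃ₗ[F] E) : Subgroup H.SIsom where
  carrier := {g | ∃ τ : E ≃ₐ[F] E, ∀ c z : E, e (g.1.1 (e.symm (c * z))) = τ c * e (g.1.1 (e.symm z))}
  one_mem' := ⟨AlgEquiv.refl, fun c z => by simp⟩
  mul_mem' := by
    rintro g g' ⟨τ, hτ⟩ ⟨τ', hτ'⟩
    refine ⟨τ'.trans τ, fun c z => ?_⟩
    show e (g.1.1 (g'.1.1 (e.symm (c * z)))) = τ (τ' c) * e (g.1.1 (g'.1.1 (e.symm z)))
    have h := congrArg e.symm (hτ' c z)
    rw [e.symm_apply_apply] at h
    rw [h, hτ, e.symm_apply_apply]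
  inv_mem' := by
    rintro g ⟨τ, hτ⟩
    refine ⟨τ.symm, fun c z => ?_⟩
    show e ((g.1⁻¹).1 (e.symm (c * z))) = τ.symm c * e ((g.1⁻¹).1 (e.symm z))
    apply e.symm.injective
    apply g.1.1.injective
    rw [e.symm_apply_apply, H.apply_inv_self]
    apply e.injective
    rw [e.apply_symm_apply, hτ, e.symm_apply_apply, τ.apply_symm_apply, H.apply_inv_self, e.apply_symm_apply]

variable (hF : Fintype.card F = (3 ^ a) ^ 2) (hσ : ∀ c, H.σ c = c ^ 3 ^ a) (hE : Module.finrank F E = 3)
  (e : V ≃ₗ[F] E) (he : ∀ x y, Algebra.trace F E (e x * rho E a (e y)) = H.h x y)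

include hF hσ hE he

/-- Multiplication by a norm one element of the extension. -/
theorem exists_mulIsom {u : E} (hu : u * rho E a u = 1) :
    ∃ g : H.Isom, (∀ x, g.1 x = e.symm (u * e x)) ∧ ((H.detHom g : Fˣ) : F) = Algebra.norm F u := by
  have hu0 : u ≠ 0 := fun h => by simp [h] at hu
  let f : E ≃ₗ[F] E := LinearEquiv.ofBijective (LinearMap.mulLeft F u)
    ⟨mul_right_injective₀ hu0, fun y => ⟨u⁻¹ * y, by simp [hu0]⟩⟩
  refine ⟨⟨(e.trans f).trans e.symm, fun x y => ?_⟩, fun x => rfl, ?_⟩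
  · rw [← he, ← he x y]
    congr 1
    show e (e.symm (u * e x)) * rho E a (e (e.symm (u * e y))) = _
    rw [e.apply_symm_apply, e.apply_symm_apply, map_mul]
    linear_combination (e x * rho E a (e y)) * hu
  · show ((LinearEquiv.det ((e.trans f).trans e.symm) : Fˣ) : F) = _
    rw [LinearEquiv.coe_det, Algebra.norm_apply]
    exact LinearMap.det_conj (LinearMap.mulLeft F u) e.symm

/-- An isometry can be followed by a multiplication making the determinant one. -/
theorem exists_mul_fix (g : H.Isom) : ∃ m : H.Isom, m * g ∈ H.SIsom ∧ ∃ u : E, u ≠ 0 ∧ ∀ x, m.1 x = e.symm (u * e x) := by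
  obtain ⟨x, hx0, hx⟩ := H.conj.exists_div_eq (c := (((H.detHom g)⁻¹ : Fˣ) : F)) (by
    have h := congrArg Units.val (MonoidHom.mem_ker.1 (inv_mem (H.det_mem_norm_ker g)))
    rw [coe_normUnits, Units.val_one] at h
    exact h)
  obtain ⟨W, hW⟩ := FiniteField.norm_surjective F E x
  have hW0 : W ≠ 0 := fun h => hx0 (by rw [← hW, h, Algebra.norm_zero])
  have hρW : rho E a W ≠ 0 := (_root_.map_ne_zero _).2 hW0
  have hu : W / rho E a W * rho E a (W / rho E a W) = 1 := by
    rw [map_div₀, rho_rho hF hE]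
    field_simp
  obtain ⟨m, hm, hdm⟩ := exists_mulIsom H hF hσ hE e he hu
  refine ⟨m, ?_, W / rho E a W, div_ne_zero hW0 hρW, hm⟩
  rw [HermSpace.SIsom, MonoidHom.mem_ker, map_mul]
  refine Units.ext ?_
  have hsx : H.σ x ≠ 0 := by rwa [ne_eq, H.conj.eq_zero]
  have hNu : Algebra.norm F (W / rho E a W) = x / H.σ x := by
    rw [eq_div_iff hsx, ← hW, ← norm_rho H hF hσ, ← map_mul, div_mul_cancel₀ _ hρW]
  rw [Units.val_mul, hdm, hNu, Units.val_one]
  conv_lhs => arg 1; arg 1; rw [hx]
  rw [mul_div_assoc, div_self hsx, mul_one, ← Units.val_mul, inv_mul_cancel, Units.val_one]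

set_option maxHeartbeats 1000000 in
theorem irreducible_case (hd : Module.finrank F V = 3) (g : H.SIsom) {χ : F[X]} (hχ : Irreducible χ) (hm : χ.Monic)
    (h3 : χ.natDegree = 3) (h0 : aeval (toEnd H g.1) χ = 0) : ∃ x : H.SIsom, x * g * x⁻¹ ∈ fieldNormalizer H e := by
  classical
  haveI : Nontrivial V := Module.nontrivial_of_finrank_pos (R := F) (by omega)
  haveI : Finite V := Module.finite_of_finite F
  haveI : Finite H.Isom := Finite.of_injective (fun g : H.Isom => (g.1 : V → V)) fun a b h =>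
    H.isom_ext fun x => congrFun h x
  obtain ⟨hroot, hord⟩ := root_dual H hF hσ g.1 hχ hm h0
  haveI : Fact (Irreducible χ) := ⟨hχ⟩
  haveI := (AdjoinRoot.powerBasis hχ.ne_zero).finite
  haveI : Finite (AdjoinRoot χ) := Module.finite_of_finite F
  have hLd : Module.finrank F (AdjoinRoot χ) = 3 := by
    rw [(AdjoinRoot.powerBasis hχ.ne_zero).finrank, AdjoinRoot.powerBasis_dim, h3]
  set N := orderOf g.1
  set T := toEnd H g.1
  set r := AdjoinRoot.root χ
  -- the root has norm one
  let φ0 : AdjoinRoot χ →ₐ[F] AdjoinRoot χ :=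
    AdjoinRoot.liftAlgHom χ (Algebra.ofId F _) ((r ^ 3 ^ a) ^ (N - 1)) hroot
  let φ : AdjoinRoot χ ≃ₐ[F] AdjoinRoot χ := AlgEquiv.ofBijective φ0
    ⟨φ0.toRingHom.injective, Finite.injective_iff_surjective.1 φ0.toRingHom.injective⟩
  have hφr : φ r = (r ^ 3 ^ a) ^ (N - 1) := by
    show φ0 r = _
    exact AdjoinRoot.liftAlgHom_root χ (Algebra.ofId F (AdjoinRoot χ)) _ hroot
  have hrr : φ r * r ^ 3 ^ a = 1 := by
    rw [hφr, ← pow_succ, Nat.sub_add_cancel (orderOf_pos g.1), ← pow_mul, mul_comm, pow_mul, hord, one_pow]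
  have h1 : φ r = (r ^ 3 ^ a)⁻¹ := eq_inv_of_mul_eq_one_left hrr
  have hid : φ (φ (φ r)) = r := by
    have h := pow_card_eq_one' (x := φ)
    rw [IsGalois.card_aut_eq_finrank, hLd] at h
    simpa [pow_succ, AlgEquiv.mul_apply] using AlgEquiv.congr_fun h r
  rw [h1, map_inv₀, map_pow, h1, inv_pow, inv_inv, map_pow, map_pow, h1, inv_pow, inv_pow, ← pow_mul, ← pow_mul,
    ← pow_two, ← pow_succ'] at hid
  have hr0 : r ≠ 0 := fun h => by rw [h, zero_pow (orderOf_pos g.1).ne'] at hord; exact zero_ne_one hord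
  have hrn : r * r ^ (3 ^ a) ^ 3 = 1 := by
    nth_rw 1 [← hid]
    exact inv_mul_cancel₀ (pow_ne_zero _ hr0)
  -- identify the root in the extension
  obtain ⟨ι0⟩ := FiniteField.nonempty_algHom_of_finrank_dvd (F := F) (K := AdjoinRoot χ) (L := E) (by rw [hLd, hE])
  let ι : AdjoinRoot χ ≃ₐ[F] E := AlgEquiv.ofBijective ι0 ⟨ι0.toRingHom.injective,
    (ι0.toLinearMap.injective_iff_surjective_of_finrank_eq_finrank (by rw [hLd, hE])).1 ι0.toRingHom.injective⟩
  set γ := ι r
  have hργ : rho E a γ = γ⁻¹ := by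
    rw [rho_apply]; refine eq_inv_of_mul_eq_one_left ?_; rw [mul_comm, ← map_pow, ← map_mul, hrn, map_one]
  have hrχ : aeval r χ = 0 := by rw [AdjoinRoot.aeval_eq, AdjoinRoot.mk_self]
  let pb := AdjoinRoot.powerBasis hχ.ne_zero
  have hpb : aeval T (minpoly F pb.gen) = 0 := by
    rw [AdjoinRoot.minpoly_powerBasis_gen_of_monic hm]; exact h0
  let ω : E →ₐ[F] Module.End F V := (pb.lift T hpb).comp ι.symm.toAlgHom
  have hωγ : ω γ = T := by
    show (pb.lift T hpb) (ι.symm (ι r)) = T
    rw [ι.symm_apply_apply]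
    exact pb.lift_gen T hpb
  have hωinv : ω γ⁻¹ = toEnd H g.1⁻¹ := by
    have h1 : T * ω γ⁻¹ = 1 := by
      rw [← hωγ, ← map_mul, mul_inv_cancel₀ ((_root_.map_ne_zero ι).2 hr0), map_one]
    have h2 : toEnd H g.1⁻¹ * T = 1 := by rw [← map_mul, inv_mul_cancel, map_one]
    calc ω γ⁻¹ = toEnd H g.1⁻¹ * T * ω γ⁻¹ := by rw [h2, one_mul]
      _ = _ := by rw [mul_assoc, h1, mul_one]
  have hpoly : ∀ c : E, ∃ P : F[X], c = aeval γ P := fun c => by
    obtain ⟨P, hP⟩ := AdjoinRoot.mk_surjective (ι.symm c)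
    exact ⟨P, by rw [show γ = ι r from rfl, aeval_algHom_apply, AdjoinRoot.aeval_eq, hP, ι.apply_symm_apply]⟩
  have hadj : ∀ (c : E) (x y : V), H.h (ω c x) y = H.h x (ω (rho E a c) y) := fun c x y => by
    obtain ⟨P, rfl⟩ := hpoly c
    have hρc : rho E a (aeval γ P) = aeval (γ⁻¹) (P.map H.σ) := by
      rw [aeval_def, hom_eval₂, hργ, aeval_def, eval₂_map]
      congr 1
      exact RingHom.ext fun c => rho_alg H hF hσ c
    rw [hρc, ← aeval_algHom_apply, ← aeval_algHom_apply, hωγ, hωinv, adjoint]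
  obtain ⟨v0, hv0⟩ := exists_ne (0 : V)
  have hinj : Function.Injective fun c => ω c v0 := fun c d h => by
    by_contra hne
    have h' : ω (c - d) v0 = 0 := by rw [map_sub, LinearMap.sub_apply, sub_eq_zero]; exact h
    refine hv0 ?_
    rw [← Module.End.one_apply (R := F) v0, ← map_one ω, ← inv_mul_cancel₀ (sub_ne_zero.2 hne), map_mul,
      Module.End.mul_apply, h', map_zero]
  let Ψ : E ≃ₗ[F] V := LinearEquiv.ofBijective
    { toFun := fun c => ω c v0, map_add' := fun c d => by rw [map_add]; rfl, map_smul' := fun s c => by rw [map_smul]; rfl }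
    ⟨hinj, (LinearMap.injective_iff_surjective_of_finrank_eq_finrank (by rw [hE, hd])).1 hinj⟩
  have hΨ : ∀ c, Ψ c = ω c v0 := fun c => rfl
  let θ : E →ₗ[F] F := (H.lin v0).comp Ψ.toLinearMap
  obtain ⟨ζ, hζ0⟩ := ((Algebra.traceForm F E).toDual (traceForm_nondegenerate F E)).surjective θ
  have hζ : ∀ c, H.h (ω c v0) v0 = Algebra.trace F E (ζ * c) := fun c => by
    show θ c = _
    rw [← hζ0]; rfl
  have hζne : ζ ≠ 0 := fun h => hv0 (H.nondeg v0 fun x => by
    obtain ⟨c, rfl⟩ := Ψ.surjective x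
    rw [hΨ, hζ, h, zero_mul, map_zero])
  have hζfix : rho E a ζ = ζ := by
    refine (sub_eq_zero.1 ((traceForm_nondegenerate F E).2 _ fun c => ?_))
    rw [Algebra.traceForm_apply, mul_sub, map_sub, sub_eq_zero]
    have h := congrArg H.σ (hζ (rho E a c))
    rw [hadj, rho_rho hF hE, ← H.symm, hζ, ← trace_rho H hF hσ, map_mul (rho E a), rho_rho hF hE] at h
    rw [mul_comm c, mul_comm c, ← h]
  obtain ⟨w, hw⟩ := (rho_isConj H hF hσ hE).norm_surjective hζfix
  have hw0 : w ≠ 0 := fun h => hζne (by rw [← hw, h, zero_mul])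
  let mw : E ≃ₗ[F] E := LinearEquiv.ofBijective (LinearMap.mulLeft F w)
    ⟨mul_right_injective₀ hw0, fun y => ⟨w⁻¹ * y, by simp [hw0]⟩⟩
  let g1 : H.Isom := ⟨(Ψ.symm.trans mw).trans e.symm, fun x y => by
    obtain ⟨c, rfl⟩ := Ψ.surjective x
    obtain ⟨d, rfl⟩ := Ψ.surjective y
    show H.h (e.symm (w * Ψ.symm (Ψ c))) (e.symm (w * Ψ.symm (Ψ d))) = _
    rw [Ψ.symm_apply_apply, Ψ.symm_apply_apply, ← he, e.apply_symm_apply, e.apply_symm_apply, hΨ, hΨ]
    conv_rhs => rw [← rho_rho hF hE d, ← hadj, ← Module.End.mul_apply, ← map_mul, hζ, ← hw]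
    rw [map_mul (rho E a)]
    congr 1
    ring⟩
  have hg1 : ∀ x, e (g1.1 (g.1.1 x)) = γ * e (g1.1 x) := fun x => by
    obtain ⟨c, rfl⟩ := Ψ.surjective x
    have hT : g.1.1 (Ψ c) = Ψ (γ * c) := by rw [hΨ, hΨ, map_mul, hωγ]; rfl
    show e (e.symm (w * Ψ.symm (g.1.1 (Ψ c)))) = γ * e (e.symm (w * Ψ.symm (Ψ c)))
    rw [hT, Ψ.symm_apply_apply, Ψ.symm_apply_apply, e.apply_symm_apply, e.apply_symm_apply]
    ring
  obtain ⟨m, hm1, u, hu0, hmu⟩ := exists_mul_fix H hF hσ hE e he g1
  refine ⟨⟨_, hm1⟩, AlgEquiv.refl, fun c z => ?_⟩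
  have key : ∀ z, e (((m * g1) * g.1 * (m * g1)⁻¹).1 (e.symm z)) = γ * z := fun z => by
    rw [H.mul_apply', H.mul_apply', H.mul_apply', hmu, e.apply_symm_apply, hg1]
    have h1 := H.apply_inv_self (m * g1) (e.symm z)
    rw [H.mul_apply', hmu] at h1
    have h2 := e.symm.injective h1
    linear_combination γ * h2
  show e (((m * g1) * g.1 * (m * g1)⁻¹).1 (e.symm (c * z))) = c * e (((m * g1) * g.1 * (m * g1)⁻¹).1 (e.symm z))
  rw [key, key]
  ring

end Conj

section Unipotent

/-- An element of order three acting with a single block has an orthonormal cycle. -/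
theorem exists_cycle (hd : Module.finrank F V = 3) (g : H.Isom) (h3 : ∀ x, g.1 (g.1 (g.1 x)) = x)
    (hS : ∃ x, x + g.1 x + g.1 (g.1 x) ≠ 0) :
    ∃ b : Module.Basis (Fin 3) F V, (∀ i j, H.h (b i) (b j) = if i = j then 1 else 0) ∧ ∀ i, g.1 (b i) = b (i + 1) := by
  classical
  have three : (3 : F) = 0 := by simpa using CharP.cast_eq_zero F 3
  let S : V → V := fun x => x + g.1 x + g.1 (g.1 x)
  have hT2 : ∀ x y, H.h x (g.1 (g.1 y)) = H.h (g.1 x) y := fun x y => by
    rw [← H.map_form g, h3]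
  have hgS : ∀ x, g.1 (S x) = S x := fun x => by
    show g.1 (x + g.1 x + g.1 (g.1 x)) = _
    rw [map_add, map_add, h3]
    show _ = x + g.1 x + g.1 (g.1 x)
    abel
  have hsa : ∀ x y, H.h (S x) y = H.h x (S y) := fun x y => by
    show H.h (x + g.1 x + g.1 (g.1 x)) y = H.h x (y + g.1 y + g.1 (g.1 y))
    rw [H.add_left, H.add_left, H.add_right, H.add_right, hT2, ← H.map_form g (g.1 (g.1 x)) y, h3]
    ring
  obtain ⟨x0, hx0⟩ : ∃ x, H.h x (S x) ≠ 0 := by
    by_contra hne
    push Not at hne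
    obtain ⟨x, hx⟩ := hS
    refine hx (H.nondeg _ fun y => ?_)
    obtain ⟨θ, hθ⟩ := H.conj.exists_trace_one
    have hSsmul : ∀ (c : F) (z : V), S (c • z) = c • S z := fun c z => by simp [S, map_smul, smul_add]
    have hSadd : ∀ y z : V, S (y + z) = S y + S z := fun y z => by simp [S, map_add]; abel
    have hpol : ∀ y z, H.h y (S z) + H.σ (H.h y (S z)) = 0 := fun y z => by
      have h := hne (y + z)
      rw [hSadd, H.add_left, H.add_right _ (S y) (S z), H.add_right _ (S y) (S z), hne, hne, zero_add, add_zero] at h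
      rwa [← hsa, ← hsa z y, H.symm (S z) y, hsa] at h
    by_contra hy
    have h := hpol ((θ * (H.h y (S x))⁻¹) • y) x
    rw [H.smul_left, mul_assoc, inv_mul_cancel₀ hy, mul_one, hθ] at h
    exact one_ne_zero h
  have hs : H.σ (H.h x0 (S x0)) = H.h x0 (S x0) := by rw [← H.symm, hsa]
  obtain ⟨c, hc⟩ := H.conj.norm_surjective (a := (H.h x0 (S x0))⁻¹) (by rw [map_inv₀, hs])
  obtain ⟨x, hx⟩ : ∃ x, H.h x (S x) = 1 := ⟨c • x0, by
    rw [show S (c • x0) = c • S x0 by simp [S, map_smul, smul_add], H.smul_left, H.smul_right, ← mul_assoc, hc,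
      inv_mul_cancel₀ hx0]⟩
  obtain ⟨θ, hθ⟩ := H.conj.exists_trace_one
  set α := H.h x x with hα
  set β := H.h x (g.1 x) with hβ
  have hαr : H.σ α = α := H.self_fixed x
  have hβ' : H.h x (g.1 (g.1 x)) = H.σ β := by rw [hT2, H.symm]
  have hsum : α + β + H.σ β = 1 := by
    rw [← hx]
    show _ = H.h x (x + g.1 x + g.1 (g.1 x))
    rw [H.add_right, H.add_right, hβ']
  set n := g.1 x - x with hn
  set s := (1 + (β - α)) * θ with hsdef
  obtain ⟨y, hy⟩ : ∃ y, y = x + s • n := ⟨_, rfl⟩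
  have hgn : g.1 n - n = S x := by
    rw [hn, map_sub]
    show _ = x + g.1 x + g.1 (g.1 x)
    have h3v : (3 : F) • g.1 x = 0 := by rw [three, zero_smul]
    linear_combination (norm := module) -h3v
  have hxn : H.h x n = β - α := by rw [hn, H.sub_right]
  have hnn : H.h n n = -1 := by
    rw [hn, H.sub_left, H.sub_right, H.sub_right, H.map_form, H.symm (g.1 x) x, ← hβ, ← hα]
    linear_combination α * three - hsum
  have hnS : H.h n (g.1 n - n) = 0 := by
    rw [hgn, hn, H.sub_left, ← hgS x, H.map_form, hgS, sub_self]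
  have hyN : H.h y (g.1 y - y) = -1 := by
    rw [show g.1 y - y = n + s • (g.1 n - n) by rw [hy, hn, map_add, map_smul]; module, hy, H.add_left,
      H.add_right, H.add_right, H.smul_left, H.smul_left, H.smul_right, H.smul_right, hnn, hnS, hxn,
      show H.h x (g.1 n - n) = 1 by rw [hgn, hx]]
    have hσβ : H.σ (β - α) = -2 - (β - α) + 0 := by
      rw [map_sub, hαr]
      linear_combination hsum - (α - 1) * three
    rw [hsdef, map_mul, map_add, map_one, hσβ, eq_sub_iff_add_eq'.2 hθ]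
    ring
  have hys : H.h y (S y) = 1 := by
    have hSn : S n = 0 := by
      show n + g.1 n + g.1 (g.1 n) = 0
      rw [hn, map_sub, map_sub, h3]; abel
    have hSy : S y = S x := by
      have : S y = S x + s • S n := by simp only [S, hy, map_add, map_smul, smul_add]; abel
      rw [this, hSn, smul_zero, add_zero]
    rw [hSy, hy, H.add_left, H.smul_left, hx, ← hsa, hSn, H.zero_left, mul_zero, add_zero]
  -- last correction
  set α' := H.h y y
  set β₁ := H.h y (g.1 y)
  rw [H.sub_right] at hyN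
  have hαr' : H.σ α' = α' := H.self_fixed y
  have hβr : H.σ β₁ = β₁ := by
    have h : β₁ = α' - 1 := by linear_combination hyN
    rw [h, map_sub, map_one, hαr']
  set t := -β₁ * θ with ht
  set z := y + t • S y with hz
  have hSS : H.h (S y) (S y) = 0 := by
    have h : S (S y) = (3 : F) • S y := by
      show S y + g.1 (S y) + g.1 (g.1 (S y)) = _
      rw [hgS, hgS]
      module
    rw [hsa, h, three, zero_smul, H.zero_right]
  have hgyS : H.h (g.1 y) (S y) = 1 := by rw [← hgS y, H.map_form, hys]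
  have hSy1 : H.h (S y) y = 1 := by rw [H.symm, hys, map_one]
  have hSgy : H.h (S y) (g.1 y) = 1 := by rw [H.symm, hgyS, map_one]
  have htt : t + H.σ t = -β₁ := by rw [ht, map_mul, map_neg, hβr, eq_sub_iff_add_eq'.2 hθ]; ring
  have hzz : H.h z z = 1 := by
    rw [hz, H.add_left, H.add_right, H.add_right, H.smul_left, H.smul_left, H.smul_right, H.smul_right, hys, hSy1, hSS]
    linear_combination htt - hyN
  have hzg : H.h z (g.1 z) = 0 := by
    rw [hz, map_add, map_smul, hgS, H.add_left, H.add_right, H.add_right, H.smul_left, H.smul_left, H.smul_right,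
      H.smul_right, hys, hSgy, hSS]
    linear_combination htt
  let e : Fin 3 → V := ![z, g.1 z, g.1 (g.1 z)]
  have hz2 : H.h z (g.1 (g.1 z)) = 0 := by rw [hT2, H.eq_zero_symm hzg]
  have hz2' : H.h (g.1 (g.1 z)) z = 0 := H.eq_zero_symm hz2
  have he : ∀ i j, H.h (e i) (e j) = if i = j then 1 else 0 := by
    intro i j
    fin_cases i <;> fin_cases j <;>
      simp [e, H.map_form, hzz, hzg, hz2, hz2', H.eq_zero_symm hzg]
  have hind : LinearIndependent F e := by
    rw [Fintype.linearIndependent_iff]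
    intro c hc i
    have := congrArg (fun v => H.h v (e i)) hc
    simpa [H.sum_left, H.smul_left, he, H.zero_left] using this
  let b := basisOfLinearIndependentOfCardEqFinrank hind (by rw [Fintype.card_fin, hd])
  have hb : ∀ i, b i = e i := fun i => by simp [b]
  refine ⟨b, fun i j => by rw [hb, hb, he], fun i => ?_⟩
  rw [hb, hb]
  fin_cases i <;> simp [e, h3]

/-- An isometry without anisotropic eigenvectors but with an eigenvalue is unipotent with a single block. -/
theorem unipotent_of_no_aniso (hd : Module.finrank F V = 3) (g : H.SIsom)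
    (hno : ∀ (v : V) (c : F), H.h v v ≠ 0 → g.1.1 v ≠ c • v) {v : V} {c : F} (hv0 : v ≠ 0) (hgv : g.1.1 v = c • v) :
    (∀ x, g.1.1 (g.1.1 (g.1.1 x)) = x) ∧ ∃ x, x + g.1.1 x + g.1.1 (g.1.1 x) ≠ 0 := by
  classical
  set f := g.1
  have three : (3 : F) = 0 := by simpa using CharP.cast_eq_zero F 3
  have hvv : H.h v v = 0 := by by_contra h; exact hno v c h hgv
  have hc0 : c ≠ 0 := fun h => hv0 (f.1.injective (by rw [hgv, h, zero_smul, map_zero]))
  obtain ⟨u, hvu, huu⟩ := H.exists_hyperbolic hv0 hvv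
  have huv : H.h u v = 1 := by rw [H.symm, hvu, map_one]
  obtain ⟨m, hm, hm0⟩ := Submodule.exists_mem_ne_zero_of_ne_bot
    (p := H.orth (Submodule.span F ({v, u} : Set V))) fun h => by
      have h1 := H.finrank_orth (Submodule.span F ({v, u} : Set V))
      rw [h, finrank_bot, H.finrank_hyperbolic hvv hvu, hd] at h1
      omega
  rw [H.mem_orth_span] at hm
  have hmv : H.h m v = 0 := hm v (by simp)
  have hmu : H.h m u = 0 := hm u (by simp)
  let w : Fin 3 → V := ![v, m, u]
  have hind : LinearIndependent F w := by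
    rw [Fintype.linearIndependent_iff]
    intro s hs
    simp only [Fin.sum_univ_three, w, Matrix.cons_val_zero, Matrix.cons_val_one, Matrix.cons_val_two, Matrix.head_cons,
      Matrix.tail_cons] at hs
    have h0 := congrArg (fun y => H.h y u) hs
    have h2 := congrArg (fun y => H.h y v) hs
    simp only [H.add_left, H.smul_left, hvu, hmu, huu, hvv, hmv, huv, H.zero_left, mul_zero, mul_one, add_zero,
      zero_add] at h0 h2
    rw [h0, h2, zero_smul, zero_smul, zero_add, add_zero] at hs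
    intro i
    fin_cases i
    exacts [h0, (smul_eq_zero.1 hs).resolve_right hm0, h2]
  let b := basisOfLinearIndependentOfCardEqFinrank hind (by rw [Fintype.card_fin, hd])
  have hb : ∀ i, b i = w i := fun i => by simp [b]
  have hdec : ∀ x, ∃ s t r : F, x = s • v + t • m + r • u := fun x => by
    refine ⟨b.repr x 0, b.repr x 1, b.repr x 2, ?_⟩
    conv_lhs => rw [← b.sum_repr x]
    simp [Fin.sum_univ_three, hb, w]
  obtain ⟨k, bb, r, hgm⟩ := hdec (f.1 m)
  have hmm : H.h m m ≠ 0 := fun h => hm0 (H.nondeg m fun x => by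
    obtain ⟨s, t, r', rfl⟩ := hdec x
    simp [H.add_left, H.smul_left, H.eq_zero_symm hmv, H.eq_zero_symm hmu, h])
  have hr : r = 0 := by
    have h := H.map_form f m v
    rw [hgm, hgv, hmv] at h
    simpa [H.add_left, H.smul_left, H.smul_right, hvv, hmv, huv, hc0, H.conj.eq_zero] using h
  rw [hr, zero_smul, add_zero] at hgm
  have hbc : bb = c := by
    by_contra hne
    refine hno (m + (k / (bb - c)) • v) bb ?_ ?_
    · simp only [H.add_left, H.add_right, H.smul_left, H.smul_right, hmv, H.eq_zero_symm hmv, hvv]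
      simpa using hmm
    · have hsub : bb - c ≠ 0 := sub_ne_zero.2 hne
      rw [map_add, map_smul, hgm, hgv, smul_smul, smul_add, smul_smul, add_comm (k • v), add_assoc, ← add_smul]
      congr 2
      field_simp
      ring
  rw [hbc] at hgm
  have hcc : c * H.σ c = 1 := by
    have h := H.map_form f m m
    rw [hgm] at h
    simp only [H.add_left, H.add_right, H.smul_left, H.smul_right, hvv, hmv, H.eq_zero_symm hmv, mul_zero, zero_add,
      add_zero] at h
    exact mul_right_cancel₀ hmm (by linear_combination h)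
  obtain ⟨n, l, c', hgu⟩ := hdec (f.1 u)
  have hc' : c' = c := by
    have h := H.map_form f v u
    rw [hgv, hgu, hvu] at h
    simp only [H.add_right, H.smul_left, H.smul_right, hvv, hvu, H.eq_zero_symm hmv, mul_zero, add_zero, zero_add,
      mul_one] at h
    have h1 : H.σ c' = H.σ c := mul_left_cancel₀ hc0 (by rw [h, hcc])
    exact H.conj.inj h1
  rw [hc'] at hgu
  have hdet : c ^ 3 = 1 := by
    have h := congrArg Units.val (MonoidHom.mem_ker.1 g.2)
    change ((LinearEquiv.det f.1 : Fˣ) : F) = 1 at h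
    rw [LinearEquiv.coe_det, ← LinearMap.det_toMatrix b, Matrix.det_fin_three] at h
    have e0 : b.repr (f.1 (b 0)) = Finsupp.single 0 c := by
      rw [hb, show w 0 = v from rfl, hgv, show v = b 0 from (hb 0).symm, map_smul, Module.Basis.repr_self,
        Finsupp.smul_single, smul_eq_mul, mul_one]
    have e1 : b.repr (f.1 (b 1)) = Finsupp.single 0 k + Finsupp.single 1 c := by
      rw [hb, show w 1 = m from rfl, hgm, show v = b 0 from (hb 0).symm, show m = b 1 from (hb 1).symm, map_add,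
        map_smul, map_smul, Module.Basis.repr_self, Module.Basis.repr_self]
      simp
    have e2 : b.repr (f.1 (b 2)) = Finsupp.single 0 n + Finsupp.single 1 l + Finsupp.single 2 c := by
      rw [hb, show w 2 = u from rfl, hgu, show v = b 0 from (hb 0).symm, show m = b 1 from (hb 1).symm,
        show u = b 2 from (hb 2).symm, map_add, map_add, map_smul, map_smul, map_smul, Module.Basis.repr_self,
        Module.Basis.repr_self, Module.Basis.repr_self]
      simp
    simp [LinearMap.toMatrix_apply, e0, e1, e2] at h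
    linear_combination h
  have hc1 : c = 1 := by
    have h : (c - 1) ^ 3 = 0 := by linear_combination hdet + (c - c ^ 2) * three
    exact sub_eq_zero.1 ((pow_eq_zero_iff (by norm_num)).1 h)
  rw [hc1, one_smul] at hgv hgm hgu
  have hk : k ≠ 0 := fun h => hno m 1 hmm (by rw [hgm, h, zero_smul, zero_add, one_smul])
  have hl : l ≠ 0 := fun h => by
    have h1 := H.map_form f m u
    rw [hgm, hgu, hmu, h, zero_smul, add_zero] at h1
    simp only [H.add_left, H.add_right, H.smul_left, H.smul_right, hvv, hvu, hmv, hmu, mul_zero, zero_add, add_zero,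
      mul_one] at h1
    exact hk h1
  have h3v : ∀ x : V, (3 : F) • x = 0 := fun x => by rw [three, zero_smul]
  refine ⟨fun x => ?_, u, fun hS => ?_⟩
  · obtain ⟨s, t, r', rfl⟩ := hdec x
    simp only [map_add, map_smul, hgv, hgm, hgu]
    linear_combination (norm := module) h3v ((t * k + r' * n + r' * l * k) • v + (r' * l) • m)
  · have h : (l * k) • v = 0 := by
      rw [← hS]
      simp only [map_add, map_smul, hgv, hgm, hgu]
      linear_combination (norm := module) -h3v (n • v + l • m + u)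
    exact hv0 ((smul_eq_zero.1 h).resolve_left (mul_ne_zero hl hk))

theorem coprime_norm_ker : (Nat.card (normUnits H.σ).ker).Coprime 3 := by
  rw [H.conj.card_norm_ker, Nat.coprime_comm, Nat.prime_three.coprime_iff_not_dvd]
  intro h
  have h1 := H.conj.card_eq_sq (F := F)
  obtain ⟨k, hk, hc⟩ := FiniteField.card F 3
  rw [Nat.card_eq_fintype_card, hc] at h1
  have h3 : 3 ∣ Nat.card (fixedField H.σ) :=
    Nat.prime_three.dvd_of_dvd_pow (h1 ▸ dvd_pow_self 3 k.ne_zero : 3 ∣ Nat.card (fixedField H.σ) ^ 2)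
  rw [Nat.dvd_add_right h3] at h
  norm_num at h

theorem unipotent_case (hd : Module.finrank F V = 3) (hF : Fintype.card F = (3 ^ a) ^ 2)
    (hσ : ∀ c, H.σ c = c ^ 3 ^ a) (hE : Module.finrank F E = 3)
    (e : V ≃ₗ[F] E) (he : ∀ x y, Algebra.trace F E (e x * rho E a (e y)) = H.h x y) (g : H.SIsom)
    (h3 : ∀ x, g.1.1 (g.1.1 (g.1.1 x)) = x) (hS : ∃ x, x + g.1.1 x + g.1.1 (g.1.1 x) ≠ 0) :
    ∃ x : H.SIsom, x * g * x⁻¹ ∈ fieldNormalizer H e := by
  classical
  let τ : E ≃ₐ[F] E := FiniteField.frobeniusAlgEquivOfAlgebraic F E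
  have hτ : ∀ z, τ z = z ^ Fintype.card F := fun z => congrFun (FiniteField.coe_frobeniusAlgEquivOfAlgebraic F E) z
  have hτρ : ∀ z, τ (rho E a z) = rho E a (τ z) := fun z => by rw [hτ, hτ, map_pow]
  let k : H.Isom := ⟨(e.trans τ.toLinearEquiv).trans e.symm, fun x y => by
    rw [← he, ← he x y]
    show Algebra.trace F E (e (e.symm (τ (e x))) * rho E a (e (e.symm (τ (e y))))) = _
    rw [e.apply_symm_apply, e.apply_symm_apply, ← hτρ, ← map_mul]
    exact Algebra.trace_eq_of_algEquiv τ _⟩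
  have hk : ∀ x, k.1 x = e.symm (τ (e x)) := fun x => rfl
  have hτ3 : ∀ z, τ (τ (τ z)) = z := fun z => by
    have h := pow_card_eq_one' (x := τ)
    rw [IsGalois.card_aut_eq_finrank, hE] at h
    simpa [pow_succ, AlgEquiv.mul_apply] using AlgEquiv.congr_fun h z
  obtain ⟨b, hb, hgb⟩ := exists_cycle H hd g.1 h3 hS
  obtain ⟨b', hb', hkb⟩ := exists_cycle H hd k (fun x => by simp [hk, hτ3]) (by
    obtain ⟨z, hz⟩ := Algebra.trace_surjective F E 1
    refine ⟨e.symm z, fun h => ?_⟩
    have h1 := congrArg e h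
    simp only [map_add, hk, e.apply_symm_apply, map_zero] at h1
    have h2 := FiniteField.algebraMap_trace_eq_sum_pow F E z
    rw [hz, hE, map_one, Finset.sum_range_succ, Finset.sum_range_succ, Finset.sum_range_one,
      Nat.card_eq_fintype_card, pow_zero, pow_one, pow_one, pow_two, pow_mul, ← hτ, ← hτ, h1] at h2
    exact one_ne_zero h2)
  obtain ⟨g1, hg1⟩ := isom_of_gram H b b' fun i j => by rw [hb, hb']
  have hcomm : ∀ x, g1.1 (g.1.1 x) = k.1 (g1.1 x) := fun x => by
    have : g1.1.toLinearMap ∘ₗ g.1.1.toLinearMap = k.1.toLinearMap ∘ₗ g1.1.toLinearMap :=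
      b.ext fun i => by simp [hgb, hg1, hkb]
    exact LinearMap.congr_fun this x
  obtain ⟨z, hz⟩ := (powCoprime (coprime_norm_ker H)).surjective ⟨(H.detHom g1)⁻¹, inv_mem (H.det_mem_norm_ker g1)⟩
  have hz' : (z.1 : Fˣ) ^ 3 = (H.detHom g1)⁻¹ := congrArg Subtype.val hz
  have hzn : (z.1 : F) * H.σ z.1 = 1 := congrArg Units.val (MonoidHom.mem_ker.1 z.2)
  let m : H.Isom := ⟨LinearEquiv.smulOfUnit z.1, fun x y => by
    show H.h ((z.1 : F) • x) ((z.1 : F) • y) = _
    rw [H.smul_left, H.smul_right, ← mul_assoc, hzn, one_mul]⟩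
  have hm : ∀ x, m.1 x = (z.1 : F) • x := fun x => rfl
  have hmem : m * g1 ∈ H.SIsom := by
    rw [HermSpace.SIsom, MonoidHom.mem_ker, map_mul]
    refine Units.ext ?_
    rw [Units.val_mul, show ((H.detHom m : Fˣ) : F) = (z.1 : F) ^ 3 by
      show ((LinearEquiv.det m.1 : Fˣ) : F) = _
      rw [LinearEquiv.coe_det, show m.1.toLinearMap = (z.1 : F) • LinearMap.id from LinearMap.ext hm,
        LinearMap.det_smul, LinearMap.det_id, mul_one, hd], ← Units.val_pow_eq_pow_val, hz', ← Units.val_mul,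
      inv_mul_cancel, Units.val_one]
  refine ⟨⟨_, hmem⟩, τ, fun c w => ?_⟩
  have key : ∀ w, ((m * g1) * g.1 * (m * g1)⁻¹).1 w = k.1 w := fun w => by
    rw [H.mul_apply', H.mul_apply', H.mul_apply', hm, hcomm]
    conv_rhs => rw [← H.apply_inv_self (m * g1) w, H.mul_apply', hm, map_smul]
  show e (((m * g1) * g.1 * (m * g1)⁻¹).1 (e.symm (c * w))) = τ c * e (((m * g1) * g.1 * (m * g1)⁻¹).1 (e.symm w))
  rw [key, key, hk, hk, e.apply_symm_apply, e.apply_symm_apply, e.apply_symm_apply, e.apply_symm_apply, map_mul]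

theorem fieldNormalizer_ne_top (hd : Module.finrank F V = 3) (hE : Module.finrank F E = 3) (e : V ≃ₗ[F] E) :
    fieldNormalizer H e ≠ ⊤ := by
  intro htop
  classical
  obtain ⟨o, ho⟩ := H.exists_orthonormal
  obtain ⟨z, hz⟩ := H.exists_norm_ker_sq_ne_one
  let i₀ : Fin (Module.finrank F V) := ⟨0, by omega⟩
  let i₁ : Fin (Module.finrank F V) := ⟨1, by omega⟩
  let i₂ : Fin (Module.finrank F V) := ⟨2, by omega⟩
  have h1 : ∀ i, H.h (o i) (o i) = 1 := fun i => by simp [ho]
  have h01 : i₀ ≠ i₁ := by simp [i₀, i₁, Fin.ext_iff]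
  have h21 : i₂ ≠ i₁ := by simp [i₂, i₁, Fin.ext_iff]
  have h20 : i₂ ≠ i₀ := by simp [i₂, i₀, Fin.ext_iff]
  set d := H.qrefl (h1 i₀) z * H.qrefl (h1 i₁) z⁻¹ with hd'
  have hdS : d ∈ H.SIsom := by
    rw [HermSpace.SIsom, MonoidHom.mem_ker, hd', map_mul, H.det_qrefl, H.det_qrefl]
    exact mul_inv_cancel _
  obtain ⟨τ, hτ⟩ : (⟨d, hdS⟩ : H.SIsom) ∈ fieldNormalizer H e := by rw [htop]; trivial
  have hd0 : d.1 (o i₀) = (z.1 : F) • o i₀ := by
    rw [hd', H.mul_apply', H.qrefl_orth (h1 i₁) _ (by simp [ho, h01]), H.qrefl_self]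
  have hd2 : d.1 (o i₂) = o i₂ := by
    rw [hd', H.mul_apply', H.qrefl_orth (h1 i₁) _ (by simp [ho, h21]), H.qrefl_orth (h1 i₀) _ (by simp [ho, h20])]
  set p := e (o i₂) with hp
  have hp0 : p ≠ 0 := fun h => o.ne_zero i₂ (e.injective (by rw [← hp, h, map_zero]))
  have hdc : ∀ c, d.1 (e.symm (c * p)) = e.symm (τ c * p) := fun c => by
    apply e.injective
    have := hτ c p
    simp only at this
    rw [this, e.apply_symm_apply, hp, e.symm_apply_apply, hd2]
  have hτ3 : ∀ w, τ (τ (τ w)) = w := fun w => by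
    have h := pow_card_eq_one' (x := τ)
    rw [IsGalois.card_aut_eq_finrank, hE] at h
    simpa [pow_succ, AlgEquiv.mul_apply] using AlgEquiv.congr_fun h w
  have hd3 : d.1 (d.1 (d.1 (o i₀))) = o i₀ := by
    rw [show o i₀ = e.symm (e (o i₀) / p * p) by rw [div_mul_cancel₀ _ hp0, e.symm_apply_apply], hdc, hdc, hdc, hτ3]
  rw [hd0, map_smul, hd0, map_smul, map_smul, hd0, smul_smul, smul_smul] at hd3
  have h3 : (z.1 : F) ^ 3 = 1 := by
    have h := congrArg (fun v => H.h v (o i₀)) hd3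
    simp only [H.smul_left, h1, mul_one] at h
    rw [← h]; ring
  have three : (3 : F) = 0 := by simpa using CharP.cast_eq_zero F 3
  have hz1 : ((z.1 : F) - 1) ^ 3 = 0 := by linear_combination h3 + ((z.1 : F) - (z.1 : F) ^ 2) * three
  exact hz (by rw [sub_eq_zero.1 ((pow_eq_zero_iff (by norm_num)).1 hz1), one_pow])

theorem three_covered (hd : Module.finrank F V = 3) (hF : Fintype.card F = (3 ^ a) ^ 2)
    (hσ : ∀ c, H.σ c = c ^ 3 ^ a) : Covered (H.SIsom ⧸ Subgroup.center H.SIsom) := by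
  classical
  haveI : Fact (Nat.Prime 3) := ⟨Nat.prime_three⟩
  haveI : Nontrivial V := Module.nontrivial_of_finrank_pos (R := F) (by omega)
  let K := FiniteField.Extension F 3 3
  haveI := Fintype.ofFinite K
  haveI : CharP K 3 := charP_of_injective_algebraMap (algebraMap F K).injective 3
  have hK : Module.finrank F K = 3 := FiniteField.finrank_extension F 3 3
  obtain ⟨e, he⟩ := H.exists_isometry (extHerm H hF hσ hK) rfl (by rw [hd, hK])
  replace he : ∀ x y, Algebra.trace F K (e x * rho K a (e y)) = H.h x y := he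
  obtain ⟨o, ho⟩ := H.exists_orthonormal
  let i₀ : Fin (Module.finrank F V) := ⟨0, by omega⟩
  let i₁ : Fin (Module.finrank F V) := ⟨1, by omega⟩
  have h01 : i₀ ≠ i₁ := by simp [i₀, i₁, Fin.ext_iff]
  have h1 : ∀ i, H.h (o i) (o i) = 1 := fun i => by simp [ho]
  set L := Submodule.span F ({o i₀} : Set V)
  refine covered_quotient _ (H.sSubStab L) (fieldNormalizer H e) ?_ ?_ ?_ (fieldNormalizer_ne_top H hd hK e) fun g => ?_
  · intro z hz
    obtain ⟨c, -, -, hc⟩ := (H.mem_center_SIsom_iff (by omega)).1 hz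
    exact H.mem_sSubStab.2 (H.mem_subStab_of_map_le fun x hx => by rw [hc]; exact L.smul_mem c hx)
  · intro z hz
    obtain ⟨c, -, -, hc⟩ := (H.mem_center_SIsom_iff (by omega)).1 hz
    refine ⟨AlgEquiv.refl, fun d w => ?_⟩
    rw [hc, hc, map_smul, map_smul, e.apply_symm_apply, e.apply_symm_apply]
    show _ = d * _
    rw [mul_smul_comm]
  · intro htop
    obtain ⟨g0, hg0⟩ := H.transitive_anisotropic (v := o i₀) (v' := o i₁) (by rw [h1]; exact one_ne_zero) (by rw [h1, h1])
    obtain ⟨z, hz⟩ := H.exists_SIsom_correct g0 (h1 i₁)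
    have h := (H.mem_sSubStab.1 (show (⟨_, hz⟩ : H.SIsom) ∈ H.sSubStab L by rw [htop]; trivial) (o i₀)).1
      (Submodule.mem_span_singleton_self _)
    rw [H.mul_apply', hg0, H.qrefl_self] at h
    obtain ⟨c, hc⟩ := Submodule.mem_span_singleton.1 h
    have h' := congrArg (fun v => H.h v (o i₁)) hc
    simp [H.smul_left, ho, h01] at h'
    exact z.1.ne_zero h'.symm
  by_cases haniso : ∃ (v : V) (c : F), H.h v v ≠ 0 ∧ g.1.1 v = c • v
  · obtain ⟨v, c, hv, hgv⟩ := haniso
    obtain ⟨s, hs⟩ := H.conj.norm_surjective (a := (H.h v v)⁻¹) (by rw [map_inv₀, H.self_fixed])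
    obtain ⟨g0, hg0⟩ := H.transitive_anisotropic (v := s • v) (v' := o i₀)
      (by rw [H.smul_left, H.smul_right, ← mul_assoc, hs, inv_mul_cancel₀ hv]; exact one_ne_zero)
      (by rw [h1, H.smul_left, H.smul_right, ← mul_assoc, hs, inv_mul_cancel₀ hv])
    obtain ⟨z, hz⟩ := H.exists_SIsom_correct g0 (h1 i₀)
    refine ⟨⟨_, hz⟩, Or.inl (H.mem_sSubStab.2 (H.mem_subStab_of_map_le fun x hx => ?_))⟩
    obtain ⟨l, rfl⟩ := Submodule.mem_span_singleton.1 hx
    set y := H.qrefl (h1 i₀) z * g0 with hy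
    have hyv : y.1 (s • v) = (z.1 : F) • o i₀ := by rw [hy, H.mul_apply', hg0, H.qrefl_self]
    have hinv : (y⁻¹).1 (o i₀) = ((z.1⁻¹ : Fˣ) : F) • s • v := by
      apply y.1.injective
      rw [H.apply_inv_self, map_smul, hyv, smul_smul, ← Units.val_mul, inv_mul_cancel, Units.val_one, one_smul]
    show (y * g.1 * y⁻¹).1 (l • o i₀) ∈ L
    rw [map_smul, H.mul_apply', H.mul_apply', hinv, map_smul, map_smul]
    refine L.smul_mem l (L.smul_mem _ ?_)
    rw [show g.1.1 (s • v) = c • s • v by rw [map_smul, hgv, smul_comm], map_smul, hyv]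
    exact L.smul_mem _ (L.smul_mem _ (Submodule.mem_span_singleton_self _))
  push Not at haniso
  set T := toEnd H g.1
  by_cases hr : ∃ c, T.charpoly.IsRoot c
  · obtain ⟨c, hc⟩ := hr
    obtain ⟨v, hv⟩ := ((Module.End.hasEigenvalue_iff_isRoot_charpoly T c).2 hc).exists_hasEigenvector
    obtain ⟨h3, hS⟩ := unipotent_of_no_aniso H hd g haniso hv.2 hv.apply_eq_smul
    obtain ⟨x, hx⟩ := unipotent_case H hd hF hσ hK e he g h3 hS
    exact ⟨x, Or.inr hx⟩
  · push Not at hr
    have hm := T.charpoly_monic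
    have hdeg : T.charpoly.natDegree = 3 := by rw [LinearMap.charpoly_natDegree, hd]
    obtain ⟨f, hf, hfi, hfd⟩ := exists_monic_irreducible_factor T.charpoly (not_isUnit_of_natDegree_pos _ (by omega))
    obtain ⟨h2, h3, h4⟩ := degree_facts T.charpoly hm hdeg hr hfi hfd
    have heq : f = T.charpoly := eq_of_monic_of_dvd_of_natDegree_le hf hm hfd (by omega) |>.symm
    obtain ⟨x, hx⟩ := irreducible_case H hF hσ hK e he hd g hfi hf (by omega)
      (heq ▸ LinearMap.aeval_self_charpoly T)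
    exact ⟨x, Or.inr hx⟩

end Unipotent

theorem psu_three_covered {q : ℕ} (hF : Fintype.card F = q ^ 2) (hq : q = 3 ^ a) : Covered (Cfsg.PSU 3 F q) := by
  subst hq
  exact covered_quotient_center_of_mulEquiv (suEquiv 3 hF)
    (three_covered (stdHerm 3 hF) (Module.finrank_fin_fun F) hF (powConj_apply hF))

end Cfsg.Lib.TwoClassCover
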